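import Mathlib
import Cfsg.Agent.H952.F4.Defs2
import Cfsg.Agent.H969.TwF.WSub
import Cfsg.Agent.ChevalleyStructure.Columns

/-!
# S5926, namespace `Two`: the matrices `x_r(t)` of `F₄` in characteristic 2 as sparse tables (helper35)

`tab` : the columns of `x_r(t)` modulo 2 as lists of pairs (row, exponent of `t`); `ent` : the entries of `x_r(t)`.
-/

set_option autoImplicit false

namespace Cfsg.Agent.H952.F4.Two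

open Cfsg Cfsg.Lie Cfsg.Agent.ChevalleyStructure Cfsg.Agent.ChevalleyStructure.Columns

/-- the code of a coordinate -/
def cd : chevF4.Idx → ℕ
  | Sum.inl i => i.val
  | Sum.inr s => 4 + s.val

/-- odd entries of a chain -/
def chO : ℕ → List (ℕ × ℤ) → List (ℕ × ℕ)
  | _, [] => []
  | k, e :: l => if e.2 % 2 = 0 then chO (k + 1) l else (4 + e.1, k) :: chO (k + 1) l

/-- the columns of `x_r(t)` modulo 2 -/
def colOf (r a : ℕ) : List (ℕ × ℕ) :=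
  if a < 4 then (a, 0) :: (if car chevF4 a r % 2 = 0 then [] else [(4 + r, 1)])
  else if a = 4 + r then [(4 + r, 0)]
  else if a = 4 + chevF4.negIdx.getD r 0 then
    (a, 0) :: (((List.range 4).filter fun i => cor chevF4 r i % 2 ≠ 0).map fun i => (i, 1)) ++ [(4 + r, 2)]
  else (a, 0) :: chO 1 (chevF4.chainEntry r (a - 4))

/-- the table -/
def tab : List (List (List (ℕ × ℕ))) := [
  [[(0, 0)], [(1, 0)], [(2, 0)], [(3, 0), (4, 1)], [(4, 0)], [(5, 0)], [(6, 0)], [(7, 0)], [(8, 0)], [(9, 0)], [(10, 0)], [(11, 0)], [(12, 0)], [(13, 0)], [(14, 0)], [(15, 0)], [(16, 0)], [(17, 0)], [(18, 0)], [(19, 0)], [(20, 0)], [(21, 0)], [(22, 0)], [(23, 0)], [(24, 0)], [(25, 0)], [(26, 0)], [(27, 0)], [(28, 0), (5, 1)], [(29, 0)], [(30, 0), (6, 1)], [(31, 0)], [(32, 0)], [(33, 0), (7, 1)], [(34, 0)], [(35, 0), (8, 1)], [(36, 0), (9, 1)],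 [(37, 0)], [(38, 0)], [(39, 0)], [(40, 0), (11, 1)], [(41, 0)], [(42, 0), (12, 1)], [(43, 0), (13, 1)], [(44, 0), (15, 1)], [(45, 0)], [(46, 0), (19, 1)], [(47, 0), (20, 1)], [(48, 0), (22, 1)], [(49, 0), (25, 1)], [(50, 0), (27, 1)], [(51, 0), (0, 1), (2, 1), (4, 2)]],
  [[(0, 0)], [(1, 0)], [(2, 0), (5, 1)], [(3, 0), (5, 1)], [(4, 0)], [(5, 0)], [(6, 0)], [(7, 0)], [(8, 0)], [(9, 0)], [(10, 0)], [(11, 0)], [(12, 0)], [(13, 0)], [(14, 0)], [(15, 0)], [(16, 0)], [(17, 0)], [(18, 0)], [(19, 0)], [(20, 0)], [(21, 0)], [(22, 0)], [(23, 0)], [(24, 0)], [(25, 0)], [(26, 0)], [(27, 0), (4, 1)], [(28, 0)], [(29, 0), (6, 1)], [(30, 0)], [(31, 0)], [(32, 0), (7, 1)], [(33, 0)], [(34, 0), (8, 1)], [(35, 0)], [(36, 0), (10, 1)], [(37, 0)], [(38, 0)], [(39, 0), (11, 1)], [(40, 0)], [(41, 0), (12, 1)], [(42, 0)], [(43, 0), (14, 1)],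 [(44, 0), (16, 1)], [(45, 0), (19, 1)], [(46, 0)], [(47, 0), (21, 1)], [(48, 0), (23, 1)], [(49, 0), (26, 1)], [(50, 0), (0, 1), (2, 1), (3, 1), (5, 2)], [(51, 0), (28, 1)]],
  [[(0, 0)], [(1, 0)], [(2, 0), (6, 1)], [(3, 0)], [(4, 0)], [(5, 0)], [(6, 0)], [(7, 0)], [(8, 0)], [(9, 0)], [(10, 0)], [(11, 0)], [(12, 0)], [(13, 0)], [(14, 0)], [(15, 0)], [(16, 0)], [(17, 0)], [(18, 0)], [(19, 0)], [(20, 0)], [(21, 0)], [(22, 0)], [(23, 0)], [(24, 0)], [(25, 0), (4, 1)], [(26, 0), (5, 1)], [(27, 0)], [(28, 0)], [(29, 0)], [(30, 0)], [(31, 0), (7, 1)], [(32, 0)], [(33, 0)], [(34, 0), (9, 1)], [(35, 0), (10, 1)], [(36, 0)], [(37, 0)], [(38, 0), (11, 1)], [(39, 0)], [(40, 0)], [(41, 0), (13, 1)], [(42, 0), (14, 1)], [(43, 0)], [(44, 0), (17, 1)], [(45, 0), (20, 1)], [(46, 0), (21, 1)], [(47, 0)], [(48, 0), (24, 1)], [(49, 0), (0,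 1), (3, 1), (6, 2)], [(50, 0), (29, 1)], [(51, 0), (30, 1)]],
  [[(0, 0), (7, 1)], [(1, 0)], [(2, 0)], [(3, 0)], [(4, 0)], [(5, 0)], [(6, 0)], [(7, 0)], [(8, 0)], [(9, 0)], [(10, 0)], [(11, 0)], [(12, 0)], [(13, 0)], [(14, 0)], [(15, 0)], [(16, 0)], [(17, 0)], [(18, 0)], [(19, 0)], [(20, 0)], [(21, 0)], [(22, 0)], [(23, 0)], [(24, 0)], [(25, 0)], [(26, 0)], [(27, 0)], [(28, 0)], [(29, 0)], [(30, 0)], [(31, 0)], [(32, 0)], [(33, 0)], [(34, 0)], [(35, 0)], [(36, 0)], [(37, 0), (11, 1)], [(38, 0), (12, 1)], [(39, 0), (13, 1)], [(40, 0), (14, 1)], [(41, 0), (15, 1)], [(42, 0), (16, 1)], [(43, 0), (17, 1)], [(44, 0), (18, 1)], [(45, 0), (22, 1), (4, 2)], [(46, 0), (23, 1), (5, 2)], [(47, 0), (24, 1), (6, 2)], [(48, 0), (1, 1), (7, 2)], [(49, 0), (31, 1), (8, 2)], [(50, 0), (32, 1), (9, 2)], [(51, 0), (33, 1), (10, 2)]],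
  [[(0, 0)], [(1, 0)], [(2, 0), (8, 1)], [(3, 0)], [(4, 0)], [(5, 0)], [(6, 0)], [(7, 0)], [(8, 0)], [(9, 0)], [(10, 0)], [(11, 0)], [(12, 0)], [(13, 0)], [(14, 0)], [(15, 0)], [(16, 0)], [(17, 0)], [(18, 0)], [(19, 0)], [(20, 0), (4, 1)], [(21, 0), (5, 1)], [(22, 0)], [(23, 0)], [(24, 0), (7, 1)], [(25, 0)], [(26, 0)], [(27, 0)], [(28, 0)], [(29, 0), (9, 1)], [(30, 0), (10, 1)], [(31, 0)], [(32, 0)], [(33, 0)], [(34, 0)], [(35, 0)], [(36, 0)], [(37, 0), (12, 1)], [(38, 0)], [(39, 0), (15, 1)], [(40, 0), (16, 1)], [(41, 0)], [(42, 0)], [(43, 0), (18, 1)], [(44, 0)], [(45, 0), (25, 1)], [(46, 0), (26, 1)], [(47, 0), (0, 1), (1, 1), (3, 1), (8, 2)], [(48, 0), (31, 1)], [(49, 0)], [(50, 0), (34, 1)], [(51, 0), (35, 1)]],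
  [[(0, 0)], [(1, 0)], [(2, 0), (9, 1)], [(3, 0), (9, 1)], [(4, 0)], [(5, 0)], [(6, 0)], [(7, 0)], [(8, 0)], [(9, 0)], [(10, 0)], [(11, 0)], [(12, 0)], [(13, 0)], [(14, 0)], [(15, 0)], [(16, 0)], [(17, 0)], [(18, 0)], [(19, 0), (4, 1)], [(20, 0)], [(21, 0), (6, 1)], [(22, 0)], [(23, 0), (7, 1)], [(24, 0)], [(25, 0)], [(26, 0), (8, 1)], [(27, 0)], [(28, 0), (10, 1)], [(29, 0)], [(30, 0)], [(31, 0)], [(32, 0)], [(33, 0)], [(34, 0)], [(35, 0)], [(36, 0)], [(37, 0), (13, 1)], [(38, 0), (15, 1)], [(39, 0)], [(40, 0), (17, 1)], [(41, 0)], [(42, 0), (18, 1)], [(43, 0)], [(44, 0)], [(45, 0), (27, 1)], [(46, 0), (0, 1), (1, 1), (2, 1), (3, 1), (9, 2)], [(47, 0), (29, 1)], [(48, 0), (32, 1)], [(49, 0), (34, 1)], [(50, 0)], [(51, 0), (36, 1)]],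
  [[(0, 0)], [(1, 0)], [(2, 0)], [(3, 0), (10, 1)], [(4, 0)], [(5, 0)], [(6, 0)], [(7, 0)], [(8, 0)], [(9, 0)], [(10, 0)], [(11, 0)], [(12, 0)], [(13, 0)], [(14, 0)], [(15, 0)], [(16, 0)], [(17, 0)], [(18, 0)], [(19, 0), (5, 1)], [(20, 0), (6, 1)], [(21, 0)], [(22, 0), (7, 1)], [(23, 0)], [(24, 0)], [(25, 0), (8, 1)], [(26, 0)], [(27, 0), (9, 1)], [(28, 0)], [(29, 0)], [(30, 0)], [(31, 0)], [(32, 0)], [(33, 0)], [(34, 0)], [(35, 0)], [(36, 0)], [(37, 0), (14, 1)], [(38, 0), (16, 1)], [(39, 0), (17, 1)], [(40, 0)], [(41, 0), (18, 1)], [(42, 0)], [(43, 0)], [(44, 0)], [(45, 0), (0, 1), (1, 1), (2, 1), (10, 2)], [(46, 0), (28, 1)], [(47, 0), (30, 1)], [(48, 0), (33, 1)], [(49, 0), (35, 1)], [(50, 0), (36, 1)], [(51, 0)]],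
  [[(0, 0), (11, 1)], [(1, 0), (11, 1)], [(2, 0)], [(3, 0)], [(4, 0)], [(5, 0)], [(6, 0)], [(7, 0)], [(8, 0)], [(9, 0)], [(10, 0)], [(11, 0)], [(12, 0)], [(13, 0)], [(14, 0)], [(15, 0)], [(16, 0)], [(17, 0)], [(18, 0), (7, 1)], [(19, 0)], [(20, 0)], [(21, 0)], [(22, 0)], [(23, 0)], [(24, 0)], [(25, 0)], [(26, 0)], [(27, 0)], [(28, 0)], [(29, 0)], [(30, 0)], [(31, 0), (12, 1)], [(32, 0), (13, 1)], [(33, 0), (14, 1)], [(34, 0), (15, 1), (4, 2)], [(35, 0), (16, 1), (5, 2)], [(36, 0), (17, 1), (6, 2)], [(37, 0)], [(38, 0)], [(39, 0)], [(40, 0)], [(41, 0), (22, 1)], [(42, 0), (23, 1)], [(43, 0), (24, 1)], [(44, 0), (0, 1), (1, 1), (11, 2)], [(45, 0)], [(46, 0)], [(47, 0)], [(48, 0), (37, 1)], [(49, 0), (38, 1), (19, 2)], [(50, 0), (39, 1), (20, 2)], [(51, 0), (40, 1), (21, 2)]],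
  [[(0, 0)], [(1, 0), (12, 1)], [(2, 0), (12, 1)], [(3, 0)], [(4, 0)], [(5, 0)], [(6, 0)], [(7, 0)], [(8, 0)], [(9, 0)], [(10, 0)], [(11, 0)], [(12, 0)], [(13, 0)], [(14, 0)], [(15, 0)], [(16, 0)], [(17, 0), (7, 1)], [(18, 0)], [(19, 0)], [(20, 0)], [(21, 0)], [(22, 0)], [(23, 0)], [(24, 0), (11, 1)], [(25, 0)], [(26, 0)], [(27, 0)], [(28, 0)], [(29, 0), (13, 1), (4, 2)], [(30, 0), (14, 1), (5, 2)], [(31, 0)], [(32, 0), (15, 1)], [(33, 0), (16, 1)], [(34, 0)], [(35, 0)], [(36, 0), (18, 1), (8, 2)], [(37, 0)], [(38, 0)], [(39, 0), (22, 1)], [(40, 0), (23, 1)], [(41, 0)], [(42, 0)], [(43, 0), (0, 1), (12, 2)], [(44, 0), (31, 1)], [(45, 0)], [(46, 0)], [(47, 0), (37, 1), (19, 2)], [(48, 0), (38, 1)], [(49, 0)], [(50, 0), (41, 1), (25, 2)], [(51, 0), (42, 1), (26, 2)]],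
  [[(0, 0)], [(1, 0), (13, 1)], [(2, 0), (13, 1)], [(3, 0), (13, 1)], [(4, 0)], [(5, 0)], [(6, 0)], [(7, 0)], [(8, 0)], [(9, 0)], [(10, 0)], [(11, 0)], [(12, 0)], [(13, 0)], [(14, 0)], [(15, 0)], [(16, 0), (7, 1)], [(17, 0)], [(18, 0)], [(19, 0)], [(20, 0)], [(21, 0)], [(22, 0)], [(23, 0), (11, 1)], [(24, 0)], [(25, 0)], [(26, 0), (12, 1), (4, 2)], [(27, 0)], [(28, 0), (14, 1), (6, 2)], [(29, 0)], [(30, 0)], [(31, 0), (15, 1)], [(32, 0)], [(33, 0), (17, 1)], [(34, 0)], [(35, 0), (18, 1), (9, 2)], [(36, 0)], [(37, 0)], [(38, 0), (22, 1)], [(39, 0)], [(40, 0), (24, 1)], [(41, 0)], [(42, 0), (0, 1), (13, 2)], [(43, 0)], [(44, 0), (32, 1)], [(45, 0)], [(46, 0), (37, 1), (20, 2)], [(47, 0)], [(48, 0), (39, 1)], [(49, 0), (41, 1), (27, 2)], [(50, 0)], [(51, 0), (43, 1), (29, 2)]],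
  [[(0, 0)], [(1, 0), (14, 1)], [(2, 0)], [(3, 0), (14, 1)], [(4, 0)], [(5, 0)], [(6, 0)], [(7, 0)], [(8, 0)], [(9, 0)], [(10, 0)], [(11, 0)], [(12, 0)], [(13, 0)], [(14, 0)], [(15, 0), (7, 1)], [(16, 0)], [(17, 0)], [(18, 0)], [(19, 0)], [(20, 0)], [(21, 0)], [(22, 0), (11, 1)], [(23, 0)], [(24, 0)], [(25, 0), (12, 1), (5, 2)], [(26, 0)], [(27, 0), (13, 1), (6, 2)], [(28, 0)], [(29, 0)], [(30, 0)], [(31, 0), (16, 1)], [(32, 0), (17, 1)], [(33, 0)], [(34, 0), (18, 1), (10, 2)], [(35, 0)], [(36, 0)], [(37, 0)], [(38, 0), (23, 1)], [(39, 0), (24, 1)], [(40, 0)], [(41, 0), (0, 1), (14, 2)], [(42, 0)], [(43, 0)], [(44, 0), (33, 1)], [(45, 0), (37, 1), (21, 2)], [(46, 0)], [(47, 0)], [(48, 0), (40, 1)], [(49, 0), (42, 1), (28, 2)], [(50, 0), (43, 1), (30, 2)], [(51, 0)]],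
  [[(0, 0), (15, 1)], [(1, 0), (15, 1)], [(2, 0)], [(3, 0), (15, 1)], [(4, 0)], [(5, 0)], [(6, 0)], [(7, 0)], [(8, 0)], [(9, 0)], [(10, 0)], [(11, 0)], [(12, 0)], [(13, 0)], [(14, 0), (7, 1)], [(15, 0)], [(16, 0)], [(17, 0)], [(18, 0)], [(19, 0)], [(20, 0)], [(21, 0), (11, 1), (4, 2)], [(22, 0)], [(23, 0), (12, 1)], [(24, 0), (13, 1)], [(25, 0)], [(26, 0)], [(27, 0)], [(28, 0), (16, 1), (8, 2)], [(29, 0)], [(30, 0), (17, 1), (9, 2)], [(31, 0)], [(32, 0)], [(33, 0), (18, 1)], [(34, 0)], [(35, 0)], [(36, 0)], [(37, 0), (22, 1)], [(38, 0)], [(39, 0)], [(40, 0), (0, 1), (1, 1), (15, 2)], [(41, 0)], [(42, 0), (31, 1)], [(43, 0), (32, 1)], [(44, 0)], [(45, 0)], [(46, 0), (38, 1), (25, 2)], [(47, 0), (39, 1), (27, 2)], [(48, 0), (41, 1)], [(49, 0)], [(50, 0)], [(51, 0), (44, 1), (34, 2)]],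
  [[(0, 0), (16, 1)], [(1, 0), (16, 1)], [(2, 0), (16, 1)], [(3, 0), (16, 1)], [(4, 0)], [(5, 0)], [(6, 0)], [(7, 0)], [(8, 0)], [(9, 0)], [(10, 0)], [(11, 0)], [(12, 0)], [(13, 0), (7, 1)], [(14, 0)], [(15, 0)], [(16, 0)], [(17, 0)], [(18, 0)], [(19, 0)], [(20, 0), (11, 1), (5, 2)], [(21, 0)], [(22, 0), (12, 1)], [(23, 0)], [(24, 0), (14, 1)], [(25, 0)], [(26, 0)], [(27, 0), (15, 1), (8, 2)], [(28, 0)], [(29, 0), (17, 1), (10, 2)], [(30, 0)], [(31, 0)], [(32, 0), (18, 1)], [(33, 0)], [(34, 0)], [(35, 0)], [(36, 0)], [(37, 0), (23, 1)], [(38, 0)], [(39, 0), (0, 1), (1, 1), (16, 2)], [(40, 0)], [(41, 0), (31, 1)], [(42, 0)], [(43, 0), (33, 1)], [(44, 0)], [(45, 0), (38, 1), (26, 2)], [(46, 0)], [(47, 0), (40, 1), (28, 2)], [(48, 0), (42, 1)], [(49, 0)], [(50, 0), (44, 1), (35, 2)], [(51, 0)]],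
  [[(0, 0), (17, 1)], [(1, 0), (17, 1)], [(2, 0), (17, 1)], [(3, 0)], [(4, 0)], [(5, 0)], [(6, 0)], [(7, 0)], [(8, 0)], [(9, 0)], [(10, 0)], [(11, 0)], [(12, 0), (7, 1)], [(13, 0)], [(14, 0)], [(15, 0)], [(16, 0)], [(17, 0)], [(18, 0)], [(19, 0), (11, 1), (6, 2)], [(20, 0)], [(21, 0)], [(22, 0), (13, 1)], [(23, 0), (14, 1)], [(24, 0)], [(25, 0), (15, 1), (9, 2)], [(26, 0), (16, 1), (10, 2)], [(27, 0)], [(28, 0)], [(29, 0)], [(30, 0)], [(31, 0), (18, 1)], [(32, 0)], [(33, 0)], [(34, 0)], [(35, 0)], [(36, 0)], [(37, 0), (24, 1)], [(38, 0), (0, 1), (1, 1), (17, 2)], [(39, 0)], [(40, 0)], [(41, 0), (32, 1)], [(42, 0), (33, 1)], [(43, 0)], [(44, 0)], [(45, 0), (39, 1), (29, 2)], [(46, 0), (40, 1), (30, 2)], [(47, 0)], [(48, 0), (43, 1)], [(49, 0), (44, 1), (36, 2)], [(50, 0)], [(51, 0)]],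
  [[(0, 0)], [(1, 0), (18, 1)], [(2, 0)], [(3, 0)], [(4, 0)], [(5, 0)], [(6, 0)], [(7, 0)], [(8, 0)], [(9, 0)], [(10, 0)], [(11, 0), (7, 1)], [(12, 0)], [(13, 0)], [(14, 0)], [(15, 0)], [(16, 0)], [(17, 0)], [(18, 0)], [(19, 0), (12, 1), (8, 2)], [(20, 0), (13, 1), (9, 2)], [(21, 0), (14, 1), (10, 2)], [(22, 0), (15, 1)], [(23, 0), (16, 1)], [(24, 0), (17, 1)], [(25, 0)], [(26, 0)], [(27, 0)], [(28, 0)], [(29, 0)], [(30, 0)], [(31, 0)], [(32, 0)], [(33, 0)], [(34, 0)], [(35, 0)], [(36, 0)], [(37, 0), (0, 1), (18, 2)], [(38, 0), (31, 1)], [(39, 0), (32, 1)], [(40, 0), (33, 1)], [(41, 0)], [(42, 0)], [(43, 0)], [(44, 0)], [(45, 0), (41, 1), (34, 2)], [(46, 0), (42, 1), (35, 2)], [(47, 0), (43, 1), (36, 2)], [(48, 0), (44, 1)], [(49, 0)], [(50, 0)], [(51, 0)]],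
  [[(0, 0)], [(1, 0)], [(2, 0), (19, 1)], [(3, 0)], [(4, 0)], [(5, 0)], [(6, 0)], [(7, 0)], [(8, 0)], [(9, 0), (4, 1)], [(10, 0), (5, 1)], [(11, 0)], [(12, 0)], [(13, 0)], [(14, 0)], [(15, 0)], [(16, 0)], [(17, 0), (11, 1)], [(18, 0), (12, 1)], [(19, 0)], [(20, 0)], [(21, 0)], [(22, 0)], [(23, 0)], [(24, 0)], [(25, 0)], [(26, 0)], [(27, 0)], [(28, 0)], [(29, 0), (20, 1)], [(30, 0), (21, 1)], [(31, 0)], [(32, 0), (22, 1)], [(33, 0), (23, 1)], [(34, 0), (25, 1)], [(35, 0), (26, 1)], [(36, 0), (1, 1), (3, 1), (19, 2)], [(37, 0)], [(38, 0)], [(39, 0)], [(40, 0)], [(41, 0)], [(42, 0)], [(43, 0), (37, 1)], [(44, 0), (38, 1)], [(45, 0)], [(46, 0)], [(47, 0)], [(48, 0)], [(49, 0)], [(50, 0), (45, 1)], [(51, 0), (46, 1)]],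
  [[(0, 0)], [(1, 0)], [(2, 0), (20, 1)], [(3, 0), (20, 1)], [(4, 0)], [(5, 0)], [(6, 0)], [(7, 0)], [(8, 0), (4, 1)], [(9, 0)], [(10, 0), (6, 1)], [(11, 0)], [(12, 0)], [(13, 0)], [(14, 0)], [(15, 0)], [(16, 0), (11, 1)], [(17, 0)], [(18, 0), (13, 1)], [(19, 0)], [(20, 0)], [(21, 0)], [(22, 0)], [(23, 0)], [(24, 0)], [(25, 0)], [(26, 0), (19, 1)], [(27, 0)], [(28, 0), (21, 1)], [(29, 0)], [(30, 0)], [(31, 0), (22, 1)], [(32, 0)], [(33, 0), (24, 1)], [(34, 0), (27, 1)], [(35, 0), (1, 1), (2, 1), (3, 1), (20, 2)], [(36, 0), (29, 1)], [(37, 0)], [(38, 0)], [(39, 0)], [(40, 0)], [(41, 0)], [(42, 0), (37, 1)], [(43, 0)], [(44, 0), (39, 1)], [(45, 0)], [(46, 0)], [(47, 0)], [(48, 0)], [(49, 0), (45, 1)], [(50, 0)], [(51, 0), (47, 1)]],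
  [[(0, 0)], [(1, 0)], [(2, 0)], [(3, 0), (21, 1)], [(4, 0)], [(5, 0)], [(6, 0)], [(7, 0)], [(8, 0), (5, 1)], [(9, 0), (6, 1)], [(10, 0)], [(11, 0)], [(12, 0)], [(13, 0)], [(14, 0)], [(15, 0), (11, 1)], [(16, 0)], [(17, 0)], [(18, 0), (14, 1)], [(19, 0)], [(20, 0)], [(21, 0)], [(22, 0)], [(23, 0)], [(24, 0)], [(25, 0), (19, 1)], [(26, 0)], [(27, 0), (20, 1)], [(28, 0)], [(29, 0)], [(30, 0)], [(31, 0), (23, 1)], [(32, 0), (24, 1)], [(33, 0)], [(34, 0), (1, 1), (2, 1), (21, 2)], [(35, 0), (28, 1)], [(36, 0), (30, 1)], [(37, 0)], [(38, 0)], [(39, 0)], [(40, 0)], [(41, 0), (37, 1)], [(42, 0)], [(43, 0)], [(44, 0), (40, 1)], [(45, 0)], [(46, 0)], [(47, 0)], [(48, 0)], [(49, 0), (46, 1)], [(50, 0), (47, 1)], [(51, 0)]],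
  [[(0, 0), (22, 1)], [(1, 0)], [(2, 0)], [(3, 0), (22, 1)], [(4, 0)], [(5, 0)], [(6, 0)], [(7, 0)], [(8, 0)], [(9, 0)], [(10, 0), (7, 1), (4, 2)], [(11, 0)], [(12, 0)], [(13, 0)], [(14, 0), (11, 1)], [(15, 0)], [(16, 0), (12, 1)], [(17, 0), (13, 1)], [(18, 0), (15, 1)], [(19, 0)], [(20, 0)], [(21, 0)], [(22, 0)], [(23, 0)], [(24, 0)], [(25, 0)], [(26, 0)], [(27, 0)], [(28, 0), (23, 1), (19, 2)], [(29, 0)], [(30, 0), (24, 1), (20, 2)], [(31, 0)], [(32, 0)], [(33, 0), (1, 1), (22, 2)], [(34, 0)], [(35, 0), (31, 1), (25, 2)], [(36, 0), (32, 1), (27, 2)], [(37, 0)], [(38, 0)], [(39, 0)], [(40, 0), (37, 1)], [(41, 0)], [(42, 0), (38, 1)], [(43, 0), (39, 1)], [(44, 0), (41, 1)], [(45, 0)], [(46, 0)], [(47, 0)], [(48, 0)], [(49, 0)], [(50, 0)], [(51, 0), (48, 1), (45, 2)]],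
  [[(0, 0), (23, 1)], [(1, 0)], [(2, 0), (23, 1)], [(3, 0), (23, 1)], [(4, 0)], [(5, 0)], [(6, 0)], [(7, 0)], [(8, 0)], [(9, 0), (7, 1), (5, 2)], [(10, 0)], [(11, 0)], [(12, 0)], [(13, 0), (11, 1)], [(14, 0)], [(15, 0), (12, 1)], [(16, 0)], [(17, 0), (14, 1)], [(18, 0), (16, 1)], [(19, 0)], [(20, 0)], [(21, 0)], [(22, 0)], [(23, 0)], [(24, 0)], [(25, 0)], [(26, 0)], [(27, 0), (22, 1), (19, 2)], [(28, 0)], [(29, 0), (24, 1), (21, 2)], [(30, 0)], [(31, 0)], [(32, 0), (1, 1), (23, 2)], [(33, 0)], [(34, 0), (31, 1), (26, 2)], [(35, 0)], [(36, 0), (33, 1), (28, 2)], [(37, 0)], [(38, 0)], [(39, 0), (37, 1)], [(40, 0)], [(41, 0), (38, 1)], [(42, 0)], [(43, 0), (40, 1)], [(44, 0), (42, 1)], [(45, 0)], [(46, 0)], [(47, 0)], [(48, 0)], [(49, 0)], [(50, 0), (48, 1), (46, 2)], [(51, 0)]],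
  [[(0, 0), (24, 1)], [(1, 0)], [(2, 0), (24, 1)], [(3, 0)], [(4, 0)], [(5, 0)], [(6, 0)], [(7, 0)], [(8, 0), (7, 1), (6, 2)], [(9, 0)], [(10, 0)], [(11, 0)], [(12, 0), (11, 1)], [(13, 0)], [(14, 0)], [(15, 0), (13, 1)], [(16, 0), (14, 1)], [(17, 0)], [(18, 0), (17, 1)], [(19, 0)], [(20, 0)], [(21, 0)], [(22, 0)], [(23, 0)], [(24, 0)], [(25, 0), (22, 1), (20, 2)], [(26, 0), (23, 1), (21, 2)], [(27, 0)], [(28, 0)], [(29, 0)], [(30, 0)], [(31, 0), (1, 1), (24, 2)], [(32, 0)], [(33, 0)], [(34, 0), (32, 1), (29, 2)], [(35, 0), (33, 1), (30, 2)], [(36, 0)], [(37, 0)], [(38, 0), (37, 1)], [(39, 0)], [(40, 0)], [(41, 0), (39, 1)], [(42, 0), (40, 1)], [(43, 0)], [(44, 0), (43, 1)], [(45, 0)], [(46, 0)], [(47, 0)], [(48, 0)], [(49, 0), (48, 1), (47, 2)], [(50, 0)], [(51, 0)]],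
  [[(0, 0)], [(1, 0)], [(2, 0), (25, 1)], [(3, 0), (25, 1)], [(4, 0)], [(5, 0)], [(6, 0), (4, 1)], [(7, 0)], [(8, 0)], [(9, 0)], [(10, 0), (8, 1)], [(11, 0)], [(12, 0)], [(13, 0)], [(14, 0), (12, 1)], [(15, 0)], [(16, 0)], [(17, 0), (15, 1)], [(18, 0)], [(19, 0)], [(20, 0)], [(21, 0), (19, 1)], [(22, 0)], [(23, 0)], [(24, 0), (22, 1)], [(25, 0)], [(26, 0)], [(27, 0)], [(28, 0), (26, 1)], [(29, 0), (27, 1)], [(30, 0), (2, 1), (3, 1), (25, 2)], [(31, 0)], [(32, 0)], [(33, 0), (31, 1)], [(34, 0)], [(35, 0)], [(36, 0), (34, 1)], [(37, 0)], [(38, 0)], [(39, 0)], [(40, 0), (38, 1)], [(41, 0)], [(42, 0)], [(43, 0), (41, 1)], [(44, 0)], [(45, 0)], [(46, 0)], [(47, 0), (45, 1)], [(48, 0)], [(49, 0)], [(50, 0)], [(51, 0), (49, 1)]],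
  [[(0, 0)], [(1, 0)], [(2, 0)], [(3, 0), (26, 1)], [(4, 0)], [(5, 0)], [(6, 0), (5, 1)], [(7, 0)], [(8, 0)], [(9, 0), (8, 1)], [(10, 0)], [(11, 0)], [(12, 0)], [(13, 0), (12, 1)], [(14, 0)], [(15, 0)], [(16, 0)], [(17, 0), (16, 1)], [(18, 0)], [(19, 0)], [(20, 0), (19, 1)], [(21, 0)], [(22, 0)], [(23, 0)], [(24, 0), (23, 1)], [(25, 0)], [(26, 0)], [(27, 0), (25, 1)], [(28, 0)], [(29, 0), (2, 1), (26, 2)], [(30, 0), (28, 1)], [(31, 0)], [(32, 0), (31, 1)], [(33, 0)], [(34, 0)], [(35, 0)], [(36, 0), (35, 1)], [(37, 0)], [(38, 0)], [(39, 0), (38, 1)], [(40, 0)], [(41, 0)], [(42, 0)], [(43, 0), (42, 1)], [(44, 0)], [(45, 0)], [(46, 0)], [(47, 0), (46, 1)], [(48, 0)], [(49, 0)], [(50, 0), (49, 1)], [(51, 0)]],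
  [[(0, 0)], [(1, 0)], [(2, 0), (27, 1)], [(3, 0)], [(4, 0)], [(5, 0), (4, 1)], [(6, 0)], [(7, 0)], [(8, 0)], [(9, 0)], [(10, 0), (9, 1)], [(11, 0)], [(12, 0)], [(13, 0)], [(14, 0), (13, 1)], [(15, 0)], [(16, 0), (15, 1)], [(17, 0)], [(18, 0)], [(19, 0)], [(20, 0)], [(21, 0), (20, 1)], [(22, 0)], [(23, 0), (22, 1)], [(24, 0)], [(25, 0)], [(26, 0), (25, 1)], [(27, 0)], [(28, 0), (3, 1), (27, 2)], [(29, 0)], [(30, 0), (29, 1)], [(31, 0)], [(32, 0)], [(33, 0), (32, 1)], [(34, 0)], [(35, 0), (34, 1)], [(36, 0)], [(37, 0)], [(38, 0)], [(39, 0)], [(40, 0), (39, 1)], [(41, 0)], [(42, 0), (41, 1)], [(43, 0)], [(44, 0)], [(45, 0)], [(46, 0), (45, 1)], [(47, 0)], [(48, 0)], [(49, 0)], [(50, 0)], [(51, 0), (50, 1)]],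
  [[(0, 0)], [(1, 0)], [(2, 0), (28, 1)], [(3, 0)], [(4, 0), (5, 1)], [(5, 0)], [(6, 0)], [(7, 0)], [(8, 0)], [(9, 0), (10, 1)], [(10, 0)], [(11, 0)], [(12, 0)], [(13, 0), (14, 1)], [(14, 0)], [(15, 0), (16, 1)], [(16, 0)], [(17, 0)], [(18, 0)], [(19, 0)], [(20, 0), (21, 1)], [(21, 0)], [(22, 0), (23, 1)], [(23, 0)], [(24, 0)], [(25, 0), (26, 1)], [(26, 0)], [(27, 0), (3, 1), (28, 2)], [(28, 0)], [(29, 0), (30, 1)], [(30, 0)], [(31, 0)], [(32, 0), (33, 1)], [(33, 0)], [(34, 0), (35, 1)], [(35, 0)], [(36, 0)], [(37, 0)], [(38, 0)], [(39, 0), (40, 1)], [(40, 0)], [(41, 0), (42, 1)], [(42, 0)], [(43, 0)], [(44, 0)], [(45, 0), (46, 1)], [(46, 0)], [(47, 0)], [(48, 0)], [(49, 0)], [(50, 0), (51, 1)], [(51, 0)]],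
  [[(0, 0)], [(1, 0)], [(2, 0)], [(3, 0), (29, 1)], [(4, 0)], [(5, 0), (6, 1)], [(6, 0)], [(7, 0)], [(8, 0), (9, 1)], [(9, 0)], [(10, 0)], [(11, 0)], [(12, 0), (13, 1)], [(13, 0)], [(14, 0)], [(15, 0)], [(16, 0), (17, 1)], [(17, 0)], [(18, 0)], [(19, 0), (20, 1)], [(20, 0)], [(21, 0)], [(22, 0)], [(23, 0), (24, 1)], [(24, 0)], [(25, 0), (27, 1)], [(26, 0), (2, 1), (29, 2)], [(27, 0)], [(28, 0), (30, 1)], [(29, 0)], [(30, 0)], [(31, 0), (32, 1)], [(32, 0)], [(33, 0)], [(34, 0)], [(35, 0), (36, 1)], [(36, 0)], [(37, 0)], [(38, 0), (39, 1)], [(39, 0)], [(40, 0)], [(41, 0)], [(42, 0), (43, 1)], [(43, 0)], [(44, 0)], [(45, 0)], [(46, 0), (47, 1)], [(47, 0)], [(48, 0)], [(49, 0), (50, 1)], [(50, 0)], [(51, 0)]],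
  [[(0, 0)], [(1, 0)], [(2, 0), (30, 1)], [(3, 0), (30, 1)], [(4, 0), (6, 1)], [(5, 0)], [(6, 0)], [(7, 0)], [(8, 0), (10, 1)], [(9, 0)], [(10, 0)], [(11, 0)], [(12, 0), (14, 1)], [(13, 0)], [(14, 0)], [(15, 0), (17, 1)], [(16, 0)], [(17, 0)], [(18, 0)], [(19, 0), (21, 1)], [(20, 0)], [(21, 0)], [(22, 0), (24, 1)], [(23, 0)], [(24, 0)], [(25, 0), (2, 1), (3, 1), (30, 2)], [(26, 0), (28, 1)], [(27, 0), (29, 1)], [(28, 0)], [(29, 0)], [(30, 0)], [(31, 0), (33, 1)], [(32, 0)], [(33, 0)], [(34, 0), (36, 1)], [(35, 0)], [(36, 0)], [(37, 0)], [(38, 0), (40, 1)], [(39, 0)], [(40, 0)], [(41, 0), (43, 1)], [(42, 0)], [(43, 0)], [(44, 0)], [(45, 0), (47, 1)], [(46, 0)], [(47, 0)], [(48, 0)], [(49, 0), (51, 1)], [(50, 0)], [(51, 0)]],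
  [[(0, 0), (31, 1)], [(1, 0)], [(2, 0), (31, 1)], [(3, 0)], [(4, 0)], [(5, 0)], [(6, 0), (7, 1), (8, 2)], [(7, 0)], [(8, 0)], [(9, 0)], [(10, 0)], [(11, 0), (12, 1)], [(12, 0)], [(13, 0), (15, 1)], [(14, 0), (16, 1)], [(15, 0)], [(16, 0)], [(17, 0), (18, 1)], [(18, 0)], [(19, 0)], [(20, 0), (22, 1), (25, 2)], [(21, 0), (23, 1), (26, 2)], [(22, 0)], [(23, 0)], [(24, 0), (1, 1), (31, 2)], [(25, 0)], [(26, 0)], [(27, 0)], [(28, 0)], [(29, 0), (32, 1), (34, 2)], [(30, 0), (33, 1), (35, 2)], [(31, 0)], [(32, 0)], [(33, 0)], [(34, 0)], [(35, 0)], [(36, 0)], [(37, 0), (38, 1)], [(38, 0)], [(39, 0), (41, 1)], [(40, 0), (42, 1)], [(41, 0)], [(42, 0)], [(43, 0), (44, 1)], [(44, 0)], [(45, 0)], [(46, 0)], [(47, 0), (48, 1), (49, 2)], [(48, 0)], [(49, 0)], [(50, 0)], [(51, 0)]],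
  [[(0, 0), (32, 1)], [(1, 0)], [(2, 0), (32, 1)], [(3, 0), (32, 1)], [(4, 0)], [(5, 0), (7, 1), (9, 2)], [(6, 0)], [(7, 0)], [(8, 0)], [(9, 0)], [(10, 0)], [(11, 0), (13, 1)], [(12, 0), (15, 1)], [(13, 0)], [(14, 0), (17, 1)], [(15, 0)], [(16, 0), (18, 1)], [(17, 0)], [(18, 0)], [(19, 0), (22, 1), (27, 2)], [(20, 0)], [(21, 0), (24, 1), (29, 2)], [(22, 0)], [(23, 0), (1, 1), (32, 2)], [(24, 0)], [(25, 0)], [(26, 0), (31, 1), (34, 2)], [(27, 0)], [(28, 0), (33, 1), (36, 2)], [(29, 0)], [(30, 0)], [(31, 0)], [(32, 0)], [(33, 0)], [(34, 0)], [(35, 0)], [(36, 0)], [(37, 0), (39, 1)], [(38, 0), (41, 1)], [(39, 0)], [(40, 0), (43, 1)], [(41, 0)], [(42, 0), (44, 1)], [(43, 0)], [(44, 0)], [(45, 0)], [(46, 0), (48, 1), (50, 2)], [(47, 0)], [(48, 0)], [(49, 0)], [(50, 0)], [(51, 0)]],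
  [[(0, 0), (33, 1)], [(1, 0)], [(2, 0)], [(3, 0), (33, 1)], [(4, 0), (7, 1), (10, 2)], [(5, 0)], [(6, 0)], [(7, 0)], [(8, 0)], [(9, 0)], [(10, 0)], [(11, 0), (14, 1)], [(12, 0), (16, 1)], [(13, 0), (17, 1)], [(14, 0)], [(15, 0), (18, 1)], [(16, 0)], [(17, 0)], [(18, 0)], [(19, 0), (23, 1), (28, 2)], [(20, 0), (24, 1), (30, 2)], [(21, 0)], [(22, 0), (1, 1), (33, 2)], [(23, 0)], [(24, 0)], [(25, 0), (31, 1), (35, 2)], [(26, 0)], [(27, 0), (32, 1), (36, 2)], [(28, 0)], [(29, 0)], [(30, 0)], [(31, 0)], [(32, 0)], [(33, 0)], [(34, 0)], [(35, 0)], [(36, 0)], [(37, 0), (40, 1)], [(38, 0), (42, 1)], [(39, 0), (43, 1)], [(40, 0)], [(41, 0), (44, 1)], [(42, 0)], [(43, 0)], [(44, 0)], [(45, 0), (48, 1), (51, 2)], [(46, 0)], [(47, 0)], [(48, 0)], [(49, 0)], [(50, 0)], [(51, 0)]],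
  [[(0, 0)], [(1, 0)], [(2, 0)], [(3, 0), (34, 1)], [(4, 0)], [(5, 0), (8, 1)], [(6, 0), (9, 1)], [(7, 0)], [(8, 0)], [(9, 0)], [(10, 0)], [(11, 0), (15, 1)], [(12, 0)], [(13, 0)], [(14, 0), (18, 1)], [(15, 0)], [(16, 0)], [(17, 0)], [(18, 0)], [(19, 0), (25, 1)], [(20, 0), (27, 1)], [(21, 0), (1, 1), (2, 1), (34, 2)], [(22, 0)], [(23, 0), (31, 1)], [(24, 0), (32, 1)], [(25, 0)], [(26, 0)], [(27, 0)], [(28, 0), (35, 1)], [(29, 0)], [(30, 0), (36, 1)], [(31, 0)], [(32, 0)], [(33, 0)], [(34, 0)], [(35, 0)], [(36, 0)], [(37, 0), (41, 1)], [(38, 0)], [(39, 0)], [(40, 0), (44, 1)], [(41, 0)], [(42, 0)], [(43, 0)], [(44, 0)], [(45, 0)], [(46, 0), (49, 1)], [(47, 0), (50, 1)], [(48, 0)], [(49, 0)], [(50, 0)], [(51, 0)]],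
  [[(0, 0)], [(1, 0)], [(2, 0), (35, 1)], [(3, 0), (35, 1)], [(4, 0), (8, 1)], [(5, 0)], [(6, 0), (10, 1)], [(7, 0)], [(8, 0)], [(9, 0)], [(10, 0)], [(11, 0), (16, 1)], [(12, 0)], [(13, 0), (18, 1)], [(14, 0)], [(15, 0)], [(16, 0)], [(17, 0)], [(18, 0)], [(19, 0), (26, 1)], [(20, 0), (1, 1), (2, 1), (3, 1), (35, 2)], [(21, 0), (28, 1)], [(22, 0), (31, 1)], [(23, 0)], [(24, 0), (33, 1)], [(25, 0)], [(26, 0)], [(27, 0), (34, 1)], [(28, 0)], [(29, 0), (36, 1)], [(30, 0)], [(31, 0)], [(32, 0)], [(33, 0)], [(34, 0)], [(35, 0)], [(36, 0)], [(37, 0), (42, 1)], [(38, 0)], [(39, 0), (44, 1)], [(40, 0)], [(41, 0)], [(42, 0)], [(43, 0)], [(44, 0)], [(45, 0), (49, 1)], [(46, 0)], [(47, 0), (51, 1)], [(48, 0)], [(49, 0)], [(50, 0)], [(51, 0)]],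
  [[(0, 0)], [(1, 0)], [(2, 0), (36, 1)], [(3, 0)], [(4, 0), (9, 1)], [(5, 0), (10, 1)], [(6, 0)], [(7, 0)], [(8, 0)], [(9, 0)], [(10, 0)], [(11, 0), (17, 1)], [(12, 0), (18, 1)], [(13, 0)], [(14, 0)], [(15, 0)], [(16, 0)], [(17, 0)], [(18, 0)], [(19, 0), (1, 1), (3, 1), (36, 2)], [(20, 0), (29, 1)], [(21, 0), (30, 1)], [(22, 0), (32, 1)], [(23, 0), (33, 1)], [(24, 0)], [(25, 0), (34, 1)], [(26, 0), (35, 1)], [(27, 0)], [(28, 0)], [(29, 0)], [(30, 0)], [(31, 0)], [(32, 0)], [(33, 0)], [(34, 0)], [(35, 0)], [(36, 0)], [(37, 0), (43, 1)], [(38, 0), (44, 1)], [(39, 0)], [(40, 0)], [(41, 0)], [(42, 0)], [(43, 0)], [(44, 0)], [(45, 0), (50, 1)], [(46, 0), (51, 1)], [(47, 0)], [(48, 0)], [(49, 0)], [(50, 0)], [(51, 0)]],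
  [[(0, 0)], [(1, 0), (37, 1)], [(2, 0)], [(3, 0)], [(4, 0)], [(5, 0)], [(6, 0)], [(7, 0), (11, 1)], [(8, 0), (12, 1), (19, 2)], [(9, 0), (13, 1), (20, 2)], [(10, 0), (14, 1), (21, 2)], [(11, 0)], [(12, 0)], [(13, 0)], [(14, 0)], [(15, 0), (22, 1)], [(16, 0), (23, 1)], [(17, 0), (24, 1)], [(18, 0), (0, 1), (37, 2)], [(19, 0)], [(20, 0)], [(21, 0)], [(22, 0)], [(23, 0)], [(24, 0)], [(25, 0)], [(26, 0)], [(27, 0)], [(28, 0)], [(29, 0)], [(30, 0)], [(31, 0), (38, 1)], [(32, 0), (39, 1)], [(33, 0), (40, 1)], [(34, 0), (41, 1), (45, 2)], [(35, 0), (42, 1), (46, 2)], [(36, 0), (43, 1), (47, 2)], [(37, 0)], [(38, 0)], [(39, 0)], [(40, 0)], [(41, 0)], [(42, 0)], [(43, 0)], [(44, 0), (48, 1)], [(45, 0)], [(46, 0)], [(47, 0)], [(48, 0)], [(49, 0)], [(50, 0)], [(51, 0)]],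
  [[(0, 0), (38, 1)], [(1, 0), (38, 1)], [(2, 0), (38, 1)], [(3, 0)], [(4, 0)], [(5, 0)], [(6, 0), (11, 1), (19, 2)], [(7, 0), (12, 1)], [(8, 0)], [(9, 0), (15, 1), (25, 2)], [(10, 0), (16, 1), (26, 2)], [(11, 0)], [(12, 0)], [(13, 0), (22, 1)], [(14, 0), (23, 1)], [(15, 0)], [(16, 0)], [(17, 0), (0, 1), (1, 1), (38, 2)], [(18, 0), (31, 1)], [(19, 0)], [(20, 0)], [(21, 0)], [(22, 0)], [(23, 0)], [(24, 0), (37, 1)], [(25, 0)], [(26, 0)], [(27, 0)], [(28, 0)], [(29, 0), (39, 1), (45, 2)], [(30, 0), (40, 1), (46, 2)], [(31, 0)], [(32, 0), (41, 1)], [(33, 0), (42, 1)], [(34, 0)], [(35, 0)], [(36, 0), (44, 1), (49, 2)], [(37, 0)], [(38, 0)], [(39, 0)], [(40, 0)], [(41, 0)], [(42, 0)], [(43, 0), (48, 1)], [(44, 0)], [(45, 0)], [(46, 0)], [(47, 0)], [(48, 0)], [(49, 0)], [(50, 0)], [(51, 0)]],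
  [[(0, 0), (39, 1)], [(1, 0), (39, 1)], [(2, 0), (39, 1)], [(3, 0), (39, 1)], [(4, 0)], [(5, 0), (11, 1), (20, 2)], [(6, 0)], [(7, 0), (13, 1)], [(8, 0), (15, 1), (27, 2)], [(9, 0)], [(10, 0), (17, 1), (29, 2)], [(11, 0)], [(12, 0), (22, 1)], [(13, 0)], [(14, 0), (24, 1)], [(15, 0)], [(16, 0), (0, 1), (1, 1), (39, 2)], [(17, 0)], [(18, 0), (32, 1)], [(19, 0)], [(20, 0)], [(21, 0)], [(22, 0)], [(23, 0), (37, 1)], [(24, 0)], [(25, 0)], [(26, 0), (38, 1), (45, 2)], [(27, 0)], [(28, 0), (40, 1), (47, 2)], [(29, 0)], [(30, 0)], [(31, 0), (41, 1)], [(32, 0)], [(33, 0), (43, 1)], [(34, 0)], [(35, 0), (44, 1), (50, 2)], [(36, 0)], [(37, 0)], [(38, 0)], [(39, 0)], [(40, 0)], [(41, 0)], [(42, 0), (48, 1)], [(43, 0)], [(44, 0)], [(45, 0)], [(46, 0)], [(47, 0)], [(48, 0)], [(49, 0)], [(50, 0)], [(51, 0)]],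
  [[(0, 0), (40, 1)], [(1, 0), (40, 1)], [(2, 0)], [(3, 0), (40, 1)], [(4, 0), (11, 1), (21, 2)], [(5, 0)], [(6, 0)], [(7, 0), (14, 1)], [(8, 0), (16, 1), (28, 2)], [(9, 0), (17, 1), (30, 2)], [(10, 0)], [(11, 0)], [(12, 0), (23, 1)], [(13, 0), (24, 1)], [(14, 0)], [(15, 0), (0, 1), (1, 1), (40, 2)], [(16, 0)], [(17, 0)], [(18, 0), (33, 1)], [(19, 0)], [(20, 0)], [(21, 0)], [(22, 0), (37, 1)], [(23, 0)], [(24, 0)], [(25, 0), (38, 1), (46, 2)], [(26, 0)], [(27, 0), (39, 1), (47, 2)], [(28, 0)], [(29, 0)], [(30, 0)], [(31, 0), (42, 1)], [(32, 0), (43, 1)], [(33, 0)], [(34, 0), (44, 1), (51, 2)], [(35, 0)], [(36, 0)], [(37, 0)], [(38, 0)], [(39, 0)], [(40, 0)], [(41, 0), (48, 1)], [(42, 0)], [(43, 0)], [(44, 0)], [(45, 0)], [(46, 0)], [(47, 0)], [(48, 0)], [(49, 0)], [(50, 0)], [(51, 0)]],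
  [[(0, 0)], [(1, 0), (41, 1)], [(2, 0)], [(3, 0), (41, 1)], [(4, 0)], [(5, 0), (12, 1), (25, 2)], [(6, 0), (13, 1), (27, 2)], [(7, 0), (15, 1)], [(8, 0)], [(9, 0)], [(10, 0), (18, 1), (34, 2)], [(11, 0), (22, 1)], [(12, 0)], [(13, 0)], [(14, 0), (0, 1), (41, 2)], [(15, 0)], [(16, 0), (31, 1)], [(17, 0), (32, 1)], [(18, 0)], [(19, 0)], [(20, 0)], [(21, 0), (37, 1), (45, 2)], [(22, 0)], [(23, 0), (38, 1)], [(24, 0), (39, 1)], [(25, 0)], [(26, 0)], [(27, 0)], [(28, 0), (42, 1), (49, 2)], [(29, 0)], [(30, 0), (43, 1), (50, 2)], [(31, 0)], [(32, 0)], [(33, 0), (44, 1)], [(34, 0)], [(35, 0)], [(36, 0)], [(37, 0)], [(38, 0)], [(39, 0)], [(40, 0), (48, 1)], [(41, 0)], [(42, 0)], [(43, 0)], [(44, 0)], [(45, 0)], [(46, 0)], [(47, 0)], [(48, 0)], [(49, 0)], [(50, 0)], [(51, 0)]],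
  [[(0, 0)], [(1, 0), (42, 1)], [(2, 0), (42, 1)], [(3, 0), (42, 1)], [(4, 0), (12, 1), (26, 2)], [(5, 0)], [(6, 0), (14, 1), (28, 2)], [(7, 0), (16, 1)], [(8, 0)], [(9, 0), (18, 1), (35, 2)], [(10, 0)], [(11, 0), (23, 1)], [(12, 0)], [(13, 0), (0, 1), (42, 2)], [(14, 0)], [(15, 0), (31, 1)], [(16, 0)], [(17, 0), (33, 1)], [(18, 0)], [(19, 0)], [(20, 0), (37, 1), (46, 2)], [(21, 0)], [(22, 0), (38, 1)], [(23, 0)], [(24, 0), (40, 1)], [(25, 0)], [(26, 0)], [(27, 0), (41, 1), (49, 2)], [(28, 0)], [(29, 0), (43, 1), (51, 2)], [(30, 0)], [(31, 0)], [(32, 0), (44, 1)], [(33, 0)], [(34, 0)], [(35, 0)], [(36, 0)], [(37, 0)], [(38, 0)], [(39, 0), (48, 1)], [(40, 0)], [(41, 0)], [(42, 0)], [(43, 0)], [(44, 0)], [(45, 0)], [(46, 0)], [(47, 0)], [(48, 0)], [(49, 0)], [(50, 0)], [(51, 0)]],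
  [[(0, 0)], [(1, 0), (43, 1)], [(2, 0), (43, 1)], [(3, 0)], [(4, 0), (13, 1), (29, 2)], [(5, 0), (14, 1), (30, 2)], [(6, 0)], [(7, 0), (17, 1)], [(8, 0), (18, 1), (36, 2)], [(9, 0)], [(10, 0)], [(11, 0), (24, 1)], [(12, 0), (0, 1), (43, 2)], [(13, 0)], [(14, 0)], [(15, 0), (32, 1)], [(16, 0), (33, 1)], [(17, 0)], [(18, 0)], [(19, 0), (37, 1), (47, 2)], [(20, 0)], [(21, 0)], [(22, 0), (39, 1)], [(23, 0), (40, 1)], [(24, 0)], [(25, 0), (41, 1), (50, 2)], [(26, 0), (42, 1), (51, 2)], [(27, 0)], [(28, 0)], [(29, 0)], [(30, 0)], [(31, 0), (44, 1)], [(32, 0)], [(33, 0)], [(34, 0)], [(35, 0)], [(36, 0)], [(37, 0)], [(38, 0), (48, 1)], [(39, 0)], [(40, 0)], [(41, 0)], [(42, 0)], [(43, 0)], [(44, 0)], [(45, 0)], [(46, 0)], [(47, 0)], [(48, 0)], [(49, 0)], [(50, 0)], [(51, 0)]],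
  [[(0, 0), (44, 1)], [(1, 0), (44, 1)], [(2, 0)], [(3, 0)], [(4, 0), (15, 1), (34, 2)], [(5, 0), (16, 1), (35, 2)], [(6, 0), (17, 1), (36, 2)], [(7, 0), (18, 1)], [(8, 0)], [(9, 0)], [(10, 0)], [(11, 0), (0, 1), (1, 1), (44, 2)], [(12, 0), (31, 1)], [(13, 0), (32, 1)], [(14, 0), (33, 1)], [(15, 0)], [(16, 0)], [(17, 0)], [(18, 0)], [(19, 0), (38, 1), (49, 2)], [(20, 0), (39, 1), (50, 2)], [(21, 0), (40, 1), (51, 2)], [(22, 0), (41, 1)], [(23, 0), (42, 1)], [(24, 0), (43, 1)], [(25, 0)], [(26, 0)], [(27, 0)], [(28, 0)], [(29, 0)], [(30, 0)], [(31, 0)], [(32, 0)], [(33, 0)], [(34, 0)], [(35, 0)], [(36, 0)], [(37, 0), (48, 1)], [(38, 0)], [(39, 0)], [(40, 0)], [(41, 0)], [(42, 0)], [(43, 0)], [(44, 0)], [(45, 0)], [(46, 0)], [(47, 0)], [(48, 0)], [(49, 0)], [(50, 0)], [(51, 0)]],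
  [[(0, 0)], [(1, 0)], [(2, 0)], [(3, 0), (45, 1)], [(4, 0)], [(5, 0), (19, 1)], [(6, 0), (20, 1)], [(7, 0), (22, 1)], [(8, 0), (25, 1)], [(9, 0), (27, 1)], [(10, 0), (0, 1), (1, 1), (2, 1), (45, 2)], [(11, 0)], [(12, 0)], [(13, 0)], [(14, 0), (37, 1)], [(15, 0)], [(16, 0), (38, 1)], [(17, 0), (39, 1)], [(18, 0), (41, 1)], [(19, 0)], [(20, 0)], [(21, 0)], [(22, 0)], [(23, 0)], [(24, 0)], [(25, 0)], [(26, 0)], [(27, 0)], [(28, 0), (46, 1)], [(29, 0)], [(30, 0), (47, 1)], [(31, 0)], [(32, 0)], [(33, 0), (48, 1)], [(34, 0)], [(35, 0), (49, 1)], [(36, 0), (50, 1)], [(37, 0)], [(38, 0)], [(39, 0)], [(40, 0)], [(41, 0)], [(42, 0)], [(43, 0)], [(44, 0)], [(45, 0)], [(46, 0)], [(47, 0)], [(48, 0)], [(49, 0)], [(50, 0)], [(51, 0)]],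
  [[(0, 0)], [(1, 0)], [(2, 0), (46, 1)], [(3, 0), (46, 1)], [(4, 0), (19, 1)], [(5, 0)], [(6, 0), (21, 1)], [(7, 0), (23, 1)], [(8, 0), (26, 1)], [(9, 0), (0, 1), (1, 1), (2, 1), (3, 1), (46, 2)], [(10, 0), (28, 1)], [(11, 0)], [(12, 0)], [(13, 0), (37, 1)], [(14, 0)], [(15, 0), (38, 1)], [(16, 0)], [(17, 0), (40, 1)], [(18, 0), (42, 1)], [(19, 0)], [(20, 0)], [(21, 0)], [(22, 0)], [(23, 0)], [(24, 0)], [(25, 0)], [(26, 0)], [(27, 0), (45, 1)], [(28, 0)], [(29, 0), (47, 1)], [(30, 0)], [(31, 0)], [(32, 0), (48, 1)], [(33, 0)], [(34, 0), (49, 1)], [(35, 0)], [(36, 0), (51, 1)], [(37, 0)], [(38, 0)], [(39, 0)], [(40, 0)], [(41, 0)], [(42, 0)], [(43, 0)], [(44, 0)], [(45, 0)], [(46, 0)], [(47, 0)], [(48, 0)], [(49, 0)], [(50, 0)], [(51, 0)]],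
  [[(0, 0)], [(1, 0)], [(2, 0), (47, 1)], [(3, 0)], [(4, 0), (20, 1)], [(5, 0), (21, 1)], [(6, 0)], [(7, 0), (24, 1)], [(8, 0), (0, 1), (1, 1), (3, 1), (47, 2)], [(9, 0), (29, 1)], [(10, 0), (30, 1)], [(11, 0)], [(12, 0), (37, 1)], [(13, 0)], [(14, 0)], [(15, 0), (39, 1)], [(16, 0), (40, 1)], [(17, 0)], [(18, 0), (43, 1)], [(19, 0)], [(20, 0)], [(21, 0)], [(22, 0)], [(23, 0)], [(24, 0)], [(25, 0), (45, 1)], [(26, 0), (46, 1)], [(27, 0)], [(28, 0)], [(29, 0)], [(30, 0)], [(31, 0), (48, 1)], [(32, 0)], [(33, 0)], [(34, 0), (50, 1)], [(35, 0), (51, 1)], [(36, 0)], [(37, 0)], [(38, 0)], [(39, 0)], [(40, 0)], [(41, 0)], [(42, 0)], [(43, 0)], [(44, 0)], [(45, 0)], [(46, 0)], [(47, 0)], [(48, 0)], [(49, 0)], [(50, 0)], [(51, 0)]],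
  [[(0, 0), (48, 1)], [(1, 0)], [(2, 0)], [(3, 0)], [(4, 0), (22, 1), (45, 2)], [(5, 0), (23, 1), (46, 2)], [(6, 0), (24, 1), (47, 2)], [(7, 0), (1, 1), (48, 2)], [(8, 0), (31, 1), (49, 2)], [(9, 0), (32, 1), (50, 2)], [(10, 0), (33, 1), (51, 2)], [(11, 0), (37, 1)], [(12, 0), (38, 1)], [(13, 0), (39, 1)], [(14, 0), (40, 1)], [(15, 0), (41, 1)], [(16, 0), (42, 1)], [(17, 0), (43, 1)], [(18, 0), (44, 1)], [(19, 0)], [(20, 0)], [(21, 0)], [(22, 0)], [(23, 0)], [(24, 0)], [(25, 0)], [(26, 0)], [(27, 0)], [(28, 0)], [(29, 0)], [(30, 0)], [(31, 0)], [(32, 0)], [(33, 0)], [(34, 0)], [(35, 0)], [(36, 0)], [(37, 0)], [(38, 0)], [(39, 0)], [(40, 0)], [(41, 0)], [(42, 0)], [(43, 0)], [(44, 0)], [(45, 0)], [(46, 0)], [(47, 0)], [(48, 0)], [(49, 0)], [(50, 0)], [(51, 0)]],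
  [[(0, 0)], [(1, 0)], [(2, 0), (49, 1)], [(3, 0)], [(4, 0), (25, 1)], [(5, 0), (26, 1)], [(6, 0), (0, 1), (3, 1), (49, 2)], [(7, 0), (31, 1)], [(8, 0)], [(9, 0), (34, 1)], [(10, 0), (35, 1)], [(11, 0), (38, 1)], [(12, 0)], [(13, 0), (41, 1)], [(14, 0), (42, 1)], [(15, 0)], [(16, 0)], [(17, 0), (44, 1)], [(18, 0)], [(19, 0)], [(20, 0), (45, 1)], [(21, 0), (46, 1)], [(22, 0)], [(23, 0)], [(24, 0), (48, 1)], [(25, 0)], [(26, 0)], [(27, 0)], [(28, 0)], [(29, 0), (50, 1)], [(30, 0), (51, 1)], [(31, 0)], [(32, 0)], [(33, 0)], [(34, 0)], [(35, 0)], [(36, 0)], [(37, 0)], [(38, 0)], [(39, 0)], [(40, 0)], [(41, 0)], [(42, 0)], [(43, 0)], [(44, 0)], [(45, 0)], [(46, 0)], [(47, 0)], [(48, 0)], [(49, 0)], [(50, 0)], [(51, 0)]],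
  [[(0, 0)], [(1, 0)], [(2, 0), (50, 1)], [(3, 0), (50, 1)], [(4, 0), (27, 1)], [(5, 0), (0, 1), (2, 1), (3, 1), (50, 2)], [(6, 0), (29, 1)], [(7, 0), (32, 1)], [(8, 0), (34, 1)], [(9, 0)], [(10, 0), (36, 1)], [(11, 0), (39, 1)], [(12, 0), (41, 1)], [(13, 0)], [(14, 0), (43, 1)], [(15, 0)], [(16, 0), (44, 1)], [(17, 0)], [(18, 0)], [(19, 0), (45, 1)], [(20, 0)], [(21, 0), (47, 1)], [(22, 0)], [(23, 0), (48, 1)], [(24, 0)], [(25, 0)], [(26, 0), (49, 1)], [(27, 0)], [(28, 0), (51, 1)], [(29, 0)], [(30, 0)], [(31, 0)], [(32, 0)], [(33, 0)], [(34, 0)], [(35, 0)], [(36, 0)], [(37, 0)], [(38, 0)], [(39, 0)], [(40, 0)], [(41, 0)], [(42, 0)], [(43, 0)], [(44, 0)], [(45, 0)], [(46, 0)], [(47, 0)], [(48, 0)], [(49, 0)], [(50, 0)], [(51, 0)]],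
  [[(0, 0)], [(1, 0)], [(2, 0)], [(3, 0), (51, 1)], [(4, 0), (0, 1), (2, 1), (51, 2)], [(5, 0), (28, 1)], [(6, 0), (30, 1)], [(7, 0), (33, 1)], [(8, 0), (35, 1)], [(9, 0), (36, 1)], [(10, 0)], [(11, 0), (40, 1)], [(12, 0), (42, 1)], [(13, 0), (43, 1)], [(14, 0)], [(15, 0), (44, 1)], [(16, 0)], [(17, 0)], [(18, 0)], [(19, 0), (46, 1)], [(20, 0), (47, 1)], [(21, 0)], [(22, 0), (48, 1)], [(23, 0)], [(24, 0)], [(25, 0), (49, 1)], [(26, 0)], [(27, 0), (50, 1)], [(28, 0)], [(29, 0)], [(30, 0)], [(31, 0)], [(32, 0)], [(33, 0)], [(34, 0)], [(35, 0)], [(36, 0)], [(37, 0)], [(38, 0)], [(39, 0)], [(40, 0)], [(41, 0)], [(42, 0)], [(43, 0)], [(44, 0)], [(45, 0)], [(46, 0)], [(47, 0)], [(48, 0)], [(49, 0)], [(50, 0)], [(51, 0)]]]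


theorem tab_eq : tab = (List.range 48).map fun r => (List.range 52).map fun a => colOf r a := by decide +kernel

end Cfsg.Agent.H952.F4.Two
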