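import Mathlib
import Cfsg.Agent.H35.F4Two.Tab

/-!
# S5926, namespace `Two`: the check of the invariant forms (helper35)
-/

set_option autoImplicit false

namespace Cfsg.Agent.H952.F4.Two

open Cfsg Cfsg.Lie Cfsg.Agent.ChevalleyStructure Cfsg.Agent.ChevalleyStructure.Columns

/-- the involution on the codes -/
def pc (c : ℕ) : ℕ := if c < 4 then c ^^^ 1 else 55 - c

/-- the codes of the submodule -/
def inC (c : ℕ) : Bool := if c < 4 then decide (c < 2) else Cfsg.Agent.H969.TwF.sh (c - 4)

/-- the codes of the block `b` -/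
def blk (b : Bool) (c : ℕ) : Bool := decide (c < 52) && (inC c == b)

def prod1 (e : ℕ × ℕ) : List (ℕ × ℕ) → ℕ
  | [] => 0
  | f :: l => (if f.1 = pc e.1 then 2 ^ (e.2 + f.2) else 0) ^^^ prod1 e l

def prodL (b : Bool) (l' : List (ℕ × ℕ)) : List (ℕ × ℕ) → ℕ
  | [] => 0
  | e :: l => (if blk b e.1 then prod1 e l' else 0) ^^^ prodL b l' l

/-- the codes of the short roots and of `h₀`, `h₁`, resp. the others -/
def codes : Bool → List ℕ
  | true => [0, 1, 7, 11, 12, 13, 14, 15, 16, 17, 18, 22, 23, 24, 31, 32, 33, 37, 38, 39, 40, 41, 42, 43, 44, 48]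
  | false => [2, 3, 4, 5, 6, 8, 9, 10, 19, 20, 21, 25, 26, 27, 28, 29, 30, 34, 35, 36, 45, 46, 47, 49, 50, 51]

theorem codes_eq (b : Bool) : codes b = (List.range 52).filter fun c => blk b c := by
  cases b <;> decide +kernel

/-- the check -/
def chkF (b : Bool) (cs : List (List (ℕ × ℕ))) : Bool :=
  (codes b).all fun a => (codes b).all fun c => prodL b (cs.getD c []) (cs.getD a []) == (if c = pc a then 1 else 0)

set_option maxRecDepth 100000 in
theorem chk_true : tab.all (fun cs => chkF true cs) = true := by decide +kernel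

set_option maxRecDepth 100000 in
theorem chk_false : tab.all (fun cs => chkF false cs) = true := by decide +kernel

theorem chk_exp : tab.all (fun cs => cs.all fun l => l.all fun e => decide (e.2 < 4)) = true := by decide +kernel

theorem chk_sorted : ((List.range 48).all fun r => sortedFrom 0 (row chevF4 r)) = true := by decide +kernel

end Cfsg.Agent.H952.F4.Two
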