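import Mathlib
import Cfsg.Agent.H35.F4Two.Chk

/-!
# S5926, namespace `Two`: entries of `x_r(t)` in characteristic 2 (helper35)
-/

set_option autoImplicit false

namespace Cfsg.Agent.H952.F4.Two

open Cfsg Cfsg.Lie Cfsg.Agent.ChevalleyStructure Cfsg.Agent.ChevalleyStructure.Columns

universe u
variable {K : Type u} [Field K]

/-- the entry with row code `c` -/
def evc (t : K) (c : ℕ) (l : List (ℕ × ℕ)) : K := (l.map fun e => if e.1 = c then t ^ e.2 else 0).sum

theorem evc_nil (t : K) (c : ℕ) : evc t c [] = 0 := rfl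

theorem evc_cons (t : K) (c : ℕ) (e : ℕ × ℕ) (l : List (ℕ × ℕ)) :
    evc t c (e :: l) = (if e.1 = c then t ^ e.2 else 0) + evc t c l := by
  unfold evc
  rw [List.map_cons, List.sum_cons]

theorem evc_append (t : K) (c : ℕ) (l l' : List (ℕ × ℕ)) : evc t c (l ++ l') = evc t c l + evc t c l' := by
  unfold evc
  rw [List.map_append, List.sum_append]

theorem cd_lt (v : chevF4.Idx) : cd v < 52 := by
  rcases v with i | s
  · exact lt_of_lt_of_le i.2 (show (4 : ℕ) ≤ 52 by norm_num)
  · have : s.val < 48 := s.2
    show 4 + s.val < 52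
    omega

theorem cd_inj : Function.Injective cd := by
  rintro (i | s) (j | s') h
  · exact congrArg Sum.inl (Fin.ext h)
  · have h1 : i.val < 4 := i.2
    have h2 : i.val = 4 + s'.val := h
    omega
  · have h1 : j.val < 4 := j.2
    have h2 : 4 + s.val = j.val := h
    omega
  · have h2 : 4 + s.val = 4 + s'.val := h
    exact congrArg Sum.inr (Fin.ext (by omega))

theorem exists_cd {c : ℕ} (h : c < 52) : ∃ v : chevF4.Idx, cd v = c := by
  by_cases h4 : c < 4
  · exact ⟨Sum.inl ⟨c, h4⟩, rfl⟩
  · refine ⟨Sum.inr ⟨c - 4, show c - 4 < 48 by omega⟩, ?_⟩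
    show 4 + (c - 4) = c
    omega

section two
variable [CharP K 2]

theorem odd_cast {c : ℤ} (h : ¬ c % 2 = 0) : (c : K) = 1 := by
  have h1 : c % 2 = 1 := by omega
  have h2 : (2 : ℤ) ∣ (c - 1) := by omega
  have h3 : ((c - 1 : ℤ) : K) = 0 := by
    rw [CharP.intCast_eq_zero_iff K 2]
    exact_mod_cast h2
  rw [Int.cast_sub, Int.cast_one, sub_eq_zero] at h3
  exact h3

theorem even_cast' {c : ℤ} (h : c % 2 = 0) : (c : K) = 0 := by
  have h3 : (2 : ℤ) ∣ c := Int.dvd_of_emod_eq_zero h
  rw [CharP.intCast_eq_zero_iff K 2]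
  exact_mod_cast h3

theorem neg_eq' (x : K) : -x = x := CharTwo.neg_eq x

theorem sub_eq' (x y : K) : x - y = x + y := CharTwo.sub_eq_add x y

omit [CharP K 2] in
theorem dl_eq (v : chevF4.Idx) (u : ℕ) : dl K chevF4 v u = if 4 + u = cd v then 1 else 0 := by
  rcases v with i | s
  · have h1 : i.val < 4 := i.2
    have h2 : ¬ 4 + u = cd (Sum.inl i) := by
      show ¬ 4 + u = i.val
      omega
    rw [dl_inl, if_neg h2]
  · rw [dl_inr]
    by_cases h : s.val = u
    · rw [if_pos h, if_pos (show 4 + u = cd (Sum.inr s) from (show 4 + u = 4 + s.val by omega))]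
    · rw [if_neg h, if_neg (show ¬ 4 + u = cd (Sum.inr s) from (show ¬ 4 + u = 4 + s.val by omega))]

theorem chSum_eq (v : chevF4.Idx) (t : K) : ∀ (k : ℕ) (l : List (ℕ × ℤ)),
    chSum (dl K chevF4 v) t k l = evc t (cd v) (chO k l)
  | k, [] => rfl
  | k, e :: l => by
    rw [chSum_cons, chSum_eq v t (k + 1) l]
    by_cases h : e.2 % 2 = 0
    · have : chO k (e :: l) = chO (k + 1) l := by
        show (if e.2 % 2 = 0 then chO (k + 1) l else (4 + e.1, k) :: chO (k + 1) l) = _
        rw [if_pos h]
      rw [this, even_cast' h, zero_mul, zero_mul, zero_add]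
    · have : chO k (e :: l) = (4 + e.1, k) :: chO (k + 1) l := by
        show (if e.2 % 2 = 0 then chO (k + 1) l else (4 + e.1, k) :: chO (k + 1) l) = _
        rw [if_neg h]
      rw [this, evc_cons, odd_cast h, one_mul, dl_eq]
      congr 1
      by_cases h2 : 4 + e.1 = cd v
      · rw [if_pos h2, if_pos h2, mul_one]
      · rw [if_neg h2, if_neg h2, mul_zero]

omit [CharP K 2] in
theorem delta_eq (v a : chevF4.Idx) : (if v = a then (1 : K) else 0) = if cd a = cd v then 1 else 0 := by
  by_cases h : v = a
  · rw [if_pos h, if_pos (by rw [h])]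
  · rw [if_neg h, if_neg (fun h' => h (cd_inj h').symm)]

theorem evc_filter (t : K) (v : chevF4.Idx) (r : ℕ) : ∀ l : List ℕ, (∀ i ∈ l, i < 4) → l.Nodup →
    evc t (cd v) ((l.filter fun i => cor chevF4 r i % 2 ≠ 0).map fun i => (i, 1)) =
      (l.map fun i => (cor chevF4 r i : K) * t * (if i = cd v then 1 else 0)).sum
  | [], _, _ => rfl
  | i :: l, h, hn => by
    have ih := evc_filter t v r l (fun j hj => h j (List.mem_cons_of_mem _ hj)) (List.nodup_cons.1 hn).2
    rw [List.map_cons, List.sum_cons, ← ih]
    by_cases hi : cor chevF4 r i % 2 = 0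
    · rw [List.filter_cons_of_neg (by simpa using hi), even_cast' hi, zero_mul, zero_mul, zero_add]
    · rw [List.filter_cons_of_pos (by simpa using hi), List.map_cons, evc_cons, odd_cast hi, one_mul]
      congr 1
      by_cases h2 : i = cd v
      · rw [if_pos h2, if_pos h2, mul_one, pow_one]
      · rw [if_neg h2, if_neg h2, mul_zero]

/-- **the entries of `x_r(t)`** -/
theorem ent (r : Fin chevF4.nroots) (t : K) (v a : chevF4.Idx) :
    chevF4.xMat K r t v a = evc t (cd v) (colOf r.val (cd a)) := by
  have hr : r.val < 48 := r.2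
  rcases a with i | s
  · have hi : i.val < 4 := i.2
    rw [xMat_inl]
    have hcol : colOf r.val (cd (Sum.inl i)) =
        (i.val, 0) :: (if car chevF4 i.val r.val % 2 = 0 then [] else [(4 + r.val, 1)]) := by
      show colOf r.val i.val = _
      unfold colOf
      rw [if_pos hi]
    rw [hcol, evc_cons, pow_zero, delta_eq, sub_eq']
    congr 1
    by_cases h : car chevF4 i.val r.val % 2 = 0
    · rw [if_pos h, evc_nil, even_cast' h, zero_mul, zero_mul]
    · rw [if_neg h, evc_cons, evc_nil, add_zero, odd_cast h, one_mul, dl_eq, pow_one]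
      by_cases h2 : 4 + r.val = cd v
      · rw [if_pos h2, if_pos h2, mul_one]
      · rw [if_neg h2, if_neg h2, mul_zero]
  · have hs : s.val < 48 := s.2
    have h4 : ¬ 4 + s.val < 4 := by omega
    by_cases hsr : s = r
    · subst hsr
      rw [xMat_self, dl_eq]
      have hcol : colOf s.val (cd (Sum.inr s)) = [(4 + s.val, 0)] := by
        show colOf s.val (4 + s.val) = _
        unfold colOf
        rw [if_neg h4, if_pos rfl]
      rw [hcol, evc_cons, evc_nil, pow_zero, add_zero]
    · have hsr' : ¬ 4 + s.val = 4 + r.val := fun h => hsr (Fin.ext (by omega))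
      by_cases hn : s.val = chevF4.negIdx.getD r.val 0
      · rw [xMat_neg chevF4 r t v s hn hsr]
        have hcol : colOf r.val (cd (Sum.inr s)) =
            (4 + s.val, 0) :: (((List.range 4).filter fun i => cor chevF4 r.val i % 2 ≠ 0).map fun i => (i, 1)) ++
              [(4 + r.val, 2)] := by
          show colOf r.val (4 + s.val) = _
          unfold colOf
          rw [if_neg h4, if_neg hsr', if_pos (by omega)]
        rw [hcol, evc_append, evc_cons, evc_cons, evc_nil, pow_zero, add_zero, sub_eq', dl_eq, dl_eq,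
          evc_filter t v r.val (List.range 4) (fun i hi => List.mem_range.1 hi) List.nodup_range]
        congr 1
        · congr 1
          have e1 : ∀ f : ℕ → K, (((List.range 4).map f).sum) = ∑ i : Fin 4, f i.val := by
            intro f
            rw [Fin.sum_univ_four]
            simp [List.range_succ]
            ring
          rw [e1]
          refine Finset.sum_congr rfl fun i _ => ?_
          rw [delta_eq]
          rfl
        · by_cases h2 : 4 + r.val = cd v
          · rw [if_pos h2, if_pos h2, mul_one]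
          · rw [if_neg h2, if_neg h2, mul_zero]
      · have hsort : sortedFrom 0 (row chevF4 r.val) = true := List.all_eq_true.1 chk_sorted r.val (List.mem_range.2 hr)
        rw [xMat_ne chevF4 r t v s hn hsr hsort, chSum_eq, dl_eq]
        have hcol : colOf r.val (cd (Sum.inr s)) = (4 + s.val, 0) :: chO 1 (chevF4.chainEntry r.val s.val) := by
          show colOf r.val (4 + s.val) = _
          unfold colOf
          rw [if_neg h4, if_neg hsr', if_neg (by omega), Nat.add_sub_cancel_left]
        rw [hcol, evc_cons, pow_zero]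

end two

end Cfsg.Agent.H952.F4.Two
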