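import Mathlib
import Cfsg.Agent.H35.F4Two.Ent

/-!
# S5926, namespace `Two`: the two blocks of `chevF4.group K` in characteristic 2 and their forms (helper35)

`PI true`, `PI false` : the coordinates of the submodule `I` resp. of the quotient `L / I`; `resH b` : the action of the
group; `form` : the invariant form.
-/

set_option autoImplicit false

namespace Cfsg.Agent.H952.F4.Two

open Cfsg Cfsg.Lie Cfsg.Agent.ChevalleyStructure Cfsg.Agent.ChevalleyStructure.Columns
open Cfsg.Agent.ChevalleyStructure.Elts
open Cfsg.Agent.H969.TwF (inW BlockZ x_block)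

universe u

/-- the coordinates of the block -/
abbrev PI (b : Bool) : Type := {j : chevF4.Idx // inW j = b}

theorem inC_cd (v : chevF4.Idx) : inC (cd v) = inW v := by
  rcases v with i | s
  · have hi : i.val < 4 := i.2
    show (if i.val < 4 then decide (i.val < 2) else _) = decide (i.val < 2)
    rw [if_pos hi]
  · show (if 4 + s.val < 4 then _ else Cfsg.Agent.H969.TwF.sh (4 + s.val - 4)) = Cfsg.Agent.H969.TwF.sh s.val
    rw [if_neg (by omega), Nat.add_sub_cancel_left]

theorem blk_cd (b : Bool) (v : chevF4.Idx) : blk b (cd v) = true ↔ inW v = b := by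
  unfold blk
  rw [inC_cd]
  simp [cd_lt v]

theorem card_PI (b : Bool) : Fintype.card (PI b) = 26 := by
  rw [Fintype.card_subtype]
  cases b <;> decide +kernel

/-- the involution on the coordinates -/
def pj : chevF4.Idx → chevF4.Idx
  | Sum.inl i => Sum.inl (⟨i.val ^^^ 1, by
      have h : i.val < 4 := i.2
      show i.val ^^^ 1 < 4
      interval_cases i.val <;> decide⟩ : Fin 4)
  | Sum.inr s => Sum.inr (Fin.rev s)

theorem cd_pj (v : chevF4.Idx) : cd (pj v) = pc (cd v) := by
  rcases v with i | s
  · have hi : i.val < 4 := i.2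
    show i.val ^^^ 1 = if i.val < 4 then i.val ^^^ 1 else 55 - i.val
    rw [if_pos hi]
  · have hs : s.val < 48 := s.2
    have e1 : cd (pj (Sum.inr s)) = 4 + (48 - (s.val + 1)) := by
      show 4 + (Fin.rev s).val = _
      rw [Fin.val_rev]
      rfl
    have e3 : cd (Sum.inr s) = 4 + s.val := rfl
    rw [e1, e3]
    unfold pc
    rw [if_neg (by omega)]
    omega

theorem inW_pj (v : chevF4.Idx) : inW (pj v) = inW v := by
  have key : ∀ c < 52, inC (pc c) = inC c := by decide +kernel
  rw [← inC_cd, ← inC_cd, cd_pj]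
  exact key _ (cd_lt v)

theorem pj_pj (v : chevF4.Idx) : pj (pj v) = v := by
  have key : ∀ c < 52, pc (pc c) = c := by decide +kernel
  apply cd_inj
  rw [cd_pj, cd_pj]
  exact key _ (cd_lt v)

theorem pj_ne (v : chevF4.Idx) : pj v ≠ v := by
  have key : ∀ c < 52, pc c ≠ c := by decide +kernel
  intro h
  have := cd_pj v
  rw [h] at this
  exact key _ (cd_lt v) this.symm

/-- the involution on the block -/
def pI {b : Bool} (j : PI b) : PI b := ⟨pj j.1, (inW_pj j.1).trans j.2⟩

theorem pI_pI {b : Bool} (j : PI b) : pI (pI j) = j := Subtype.ext (pj_pj j.1)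

theorem pI_ne {b : Bool} (j : PI b) : pI j ≠ j := fun h => pj_ne j.1 (congrArg Subtype.val h)

section
variable {K : Type u} [Field K]

/-- the restriction to the block -/
def res (b : Bool) (A : Matrix chevF4.Idx chevF4.Idx K) : Matrix (PI b) (PI b) K := A.submatrix Subtype.val Subtype.val

theorem res_one (b : Bool) : res b (1 : Matrix chevF4.Idx chevF4.Idx K) = 1 := by
  ext i j
  show (1 : Matrix chevF4.Idx chevF4.Idx K) i.1 j.1 = (1 : Matrix (PI b) (PI b) K) i j
  rw [Matrix.one_apply, Matrix.one_apply]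
  simp only [Subtype.ext_iff]

theorem res_mul (b : Bool) {A B : Matrix chevF4.Idx chevF4.Idx K} (hA : BlockZ A) (hB : BlockZ B) :
    res b (A * B) = res b A * res b B := by
  ext i j
  show (A * B) i.1 j.1 = (res b A * res b B) i j
  rw [Matrix.mul_apply, Matrix.mul_apply]
  have h1 : ∑ k, A i.1 k * B k j.1 = ∑ k ∈ Finset.univ.filter (fun k => inW k = b), A i.1 k * B k j.1 := by
    refine (Finset.sum_subset (Finset.subset_univ _) ?_).symm
    intro k _ hk
    have hk' : inW k ≠ b := by simpa using hk
    have hi := i.2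
    have hj := j.2
    cases b
    · have h : inW k = true := by simpa using hk'
      rw [hA i.1 k h hi, zero_mul]
    · have h : inW k = false := by simpa using hk'
      rw [hB k j.1 hj h, mul_zero]
  have h2 : ∑ k ∈ Finset.univ.filter (fun k => inW k = b), A i.1 k * B k j.1 = ∑ k : PI b, A i.1 k.1 * B k.1 j.1 :=
    Finset.sum_subtype _ (by simp) (fun k => A i.1 k * B k j.1)
  exact h1.trans h2

theorem xG_block [CharP K 2] (r : ℕ) (t : K) :
    BlockZ ((xG hF4 r t : GL chevF4.Idx K) : Matrix chevF4.Idx chevF4.Idx K) := by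
  rw [coe_xG]
  exact x_block r t

variable (K) in
/-- all elements of the group are block matrices -/
def blkGrp [CharP K 2] : Subgroup (GL chevF4.Idx K) where
  carrier := {g | BlockZ (g : Matrix chevF4.Idx chevF4.Idx K) ∧ BlockZ ((g⁻¹ : GL chevF4.Idx K) : Matrix chevF4.Idx chevF4.Idx K)}
  one_mem' := by
    refine ⟨?_, ?_⟩
    · rw [Units.val_one]; exact BlockZ.one
    · rw [inv_one, Units.val_one]; exact BlockZ.one
  mul_mem' := by
    rintro a b ⟨h1, h2⟩ ⟨h3, h4⟩
    refine ⟨?_, ?_⟩
    · rw [Units.val_mul]; exact h1.mul h3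
    · rw [mul_inv_rev, Units.val_mul]; exact h4.mul h2
  inv_mem' := by
    rintro a ⟨h1, h2⟩
    exact ⟨h2, by rw [inv_inv]; exact h1⟩

theorem group_le [CharP K 2] : chevF4.group K ≤ blkGrp K := by
  rw [group_le_iff hF4]
  intro r _ t
  refine ⟨xG_block r t, ?_⟩
  rw [xG_inv]
  exact xG_block r (-t)

theorem grp_block [CharP K 2] (g : ↥(chevF4.group K)) :
    BlockZ ((g : GL chevF4.Idx K) : Matrix chevF4.Idx chevF4.Idx K) := (group_le g.2).1

/-- the action of the group on the block -/
def resH [CharP K 2] (b : Bool) : ↥(chevF4.group K) →* Matrix (PI b) (PI b) K where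
  toFun g := res b ((g : GL chevF4.Idx K) : Matrix chevF4.Idx chevF4.Idx K)
  map_one' := res_one b
  map_mul' g h := res_mul b (grp_block g) (grp_block h)

theorem resH_apply [CharP K 2] (b : Bool) (g : ↥(chevF4.group K)) :
    resH b g = res b ((g : GL chevF4.Idx K) : Matrix chevF4.Idx chevF4.Idx K) := rfl

end

end Cfsg.Agent.H952.F4.Two
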