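import Mathlib
import Cfsg.Agent.H35.F4Two.Res

/-!
# S5926, namespace `Two`: the invariant forms (helper35)
-/

set_option autoImplicit false

namespace Cfsg.Agent.H952.F4.Two

open Cfsg Cfsg.Lie Cfsg.Agent.ChevalleyStructure Cfsg.Agent.ChevalleyStructure.Columns
open Cfsg.Agent.ChevalleyStructure.Elts
open Cfsg.Agent.H969.TwF (inW BlockZ x_block)

universe u
variable {K : Type u} [Field K]

/-- the value of a polynomial modulo 2, coded as a natural number -/
def evN (t : K) (n : ℕ) : K := ∑ i ∈ Finset.range 8, if n.testBit i then t ^ i else 0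

theorem evN_zero (t : K) : evN t 0 = 0 := by
  unfold evN
  simp

theorem evN_pow (t : K) {k : ℕ} (hk : k < 8) : evN t (2 ^ k) = t ^ k := by
  unfold evN
  rw [Finset.sum_eq_single k]
  · rw [Nat.testBit_two_pow_self, if_pos rfl]
  · intro i _ hi
    rw [Nat.testBit_two_pow_of_ne (fun h => hi h.symm), if_neg (by simp)]
  · intro h
    exact absurd (Finset.mem_range.2 hk) h

theorem evN_xor [CharP K 2] (t : K) (n m : ℕ) : evN t (n ^^^ m) = evN t n + evN t m := by
  unfold evN
  rw [← Finset.sum_add_distrib]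
  refine Finset.sum_congr rfl fun i _ => ?_
  rw [Nat.testBit_xor]
  cases n.testBit i <;> cases m.testBit i
  · simp
  · simp
  · simp
  · simp [CharTwo.add_self_eq_zero]

theorem evN_prod1 [CharP K 2] (t : K) (e : ℕ × ℕ) (he : e.2 < 4) : ∀ l : List (ℕ × ℕ), (∀ f ∈ l, f.2 < 4) →
    evN t (prod1 e l) = t ^ e.2 * evc t (pc e.1) l
  | [], _ => by
    show evN t 0 = _
    rw [evN_zero, evc_nil, mul_zero]
  | f :: l, h => by
    have ih := evN_prod1 t e he l fun g hg => h g (List.mem_cons_of_mem _ hg)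
    have hf : f.2 < 4 := h f List.mem_cons_self
    show evN t ((if f.1 = pc e.1 then 2 ^ (e.2 + f.2) else 0) ^^^ prod1 e l) = _
    rw [evN_xor, ih, evc_cons, mul_add]
    congr 1
    by_cases h1 : f.1 = pc e.1
    · rw [if_pos h1, if_pos h1, evN_pow t (by omega), pow_add]
    · rw [if_neg h1, if_neg h1, evN_zero, mul_zero]

theorem sum_single (b : Bool) (g : ℕ → K) (c : ℕ) :
    (∑ i : PI b, if c = cd i.1 then g (cd i.1) else 0) = if blk b c then g c else 0 := by
  by_cases h : blk b c = true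
  · have hc : c < 52 := by
      unfold blk at h
      rw [Bool.and_eq_true] at h
      exact of_decide_eq_true h.1
    obtain ⟨v, rfl⟩ := exists_cd hc
    have hv : inW v = b := (blk_cd b v).1 h
    rw [if_pos h, Finset.sum_eq_single (⟨v, hv⟩ : PI b)]
    · rw [if_pos rfl]
    · intro i _ hi
      rw [if_neg]
      intro h'
      exact hi (Subtype.ext (cd_inj h').symm)
    · intro h'
      exact absurd (Finset.mem_univ _) h'
  · rw [if_neg h]
    refine Finset.sum_eq_zero fun i _ => ?_
    rw [if_neg]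
    rintro rfl
    exact h ((blk_cd b i.1).2 i.2)

theorem evN_prodL [CharP K 2] (b : Bool) (t : K) (l' : List (ℕ × ℕ)) (hl' : ∀ f ∈ l', f.2 < 4) :
    ∀ l : List (ℕ × ℕ), (∀ f ∈ l, f.2 < 4) →
    evN t (prodL b l' l) = ∑ i : PI b, evc t (cd i.1) l * evc t (cd (pI i).1) l'
  | [], _ => by
    show evN t 0 = _
    rw [evN_zero]
    refine (Finset.sum_eq_zero fun i _ => ?_).symm
    rw [evc_nil, zero_mul]
  | e :: l, h => by
    have ih := evN_prodL b t l' hl' l fun g hg => h g (List.mem_cons_of_mem _ hg)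
    have he : e.2 < 4 := h e List.mem_cons_self
    show evN t ((if blk b e.1 then prod1 e l' else 0) ^^^ prodL b l' l) = _
    rw [evN_xor, ih]
    have e1 : ∀ i : PI b, evc t (cd i.1) (e :: l) * evc t (cd (pI i).1) l' =
        (if e.1 = cd i.1 then (t ^ e.2 * evc t (pc (cd i.1)) l') else 0) + evc t (cd i.1) l * evc t (cd (pI i).1) l' := by
      intro i
      have e2 : cd (pI i).1 = pc (cd i.1) := cd_pj i.1
      rw [evc_cons, add_mul, e2]
      congr 1
      by_cases h1 : e.1 = cd i.1
      · rw [if_pos h1, if_pos h1]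
      · rw [if_neg h1, if_neg h1, zero_mul]
    rw [Finset.sum_congr rfl fun i _ => e1 i, Finset.sum_add_distrib]
    congr 1
    rw [sum_single b (fun c => t ^ e.2 * evc t (pc c) l') e.1]
    by_cases h1 : blk b e.1 = true
    · rw [if_pos h1, if_pos h1, evN_prod1 t e he l' hl']
    · rw [if_neg h1, if_neg h1, evN_zero]

/-! ### the facts from the table -/

theorem tab_get {r : ℕ} (hr : r < 48) : tab.getD r [] = (List.range 52).map fun a => colOf r a := by
  rw [tab_eq, List.getD_eq_getElem?_getD, List.getElem?_map, List.getElem?_range hr]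
  rfl

theorem map_get {f : ℕ → List (ℕ × ℕ)} {a : ℕ} (ha : a < 52) : ((List.range 52).map f).getD a [] = f a := by
  rw [List.getD_eq_getElem?_getD, List.getElem?_map, List.getElem?_range ha]
  rfl

theorem tab_mem {r : ℕ} (hr : r < 48) : ((List.range 52).map fun a => colOf r a) ∈ tab := by
  rw [tab_eq]
  exact List.mem_map.2 ⟨r, List.mem_range.2 hr, rfl⟩

theorem col_exp {r a : ℕ} (hr : r < 48) (ha : a < 52) : ∀ e ∈ colOf r a, e.2 < 4 := by
  intro e he
  have h1 := List.all_eq_true.1 chk_exp _ (tab_mem hr)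
  have h2 := List.all_eq_true.1 h1 (colOf r a) (List.mem_map.2 ⟨a, List.mem_range.2 ha, rfl⟩)
  have h3 := List.all_eq_true.1 h2 e he
  exact of_decide_eq_true h3

theorem mem_codes {b : Bool} (i : PI b) : cd i.1 ∈ codes b := by
  rw [codes_eq, List.mem_filter]
  exact ⟨List.mem_range.2 (cd_lt i.1), (blk_cd b i.1).2 i.2⟩

theorem chk_all (b : Bool) : tab.all (fun cs => chkF b cs) = true := by
  cases b
  · exact chk_false
  · exact chk_true

theorem col_prod {b : Bool} {r : ℕ} (hr : r < 48) (i j : PI b) :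
    prodL b (colOf r (cd j.1)) (colOf r (cd i.1)) = if cd j.1 = pc (cd i.1) then 1 else 0 := by
  have h1 := List.all_eq_true.1 (chk_all b) _ (tab_mem hr)
  have h2 := List.all_eq_true.1 (List.all_eq_true.1 h1 _ (mem_codes i)) _ (mem_codes j)
  rw [map_get (cd_lt i.1), map_get (cd_lt j.1)] at h2
  exact beq_iff_eq.1 h2

/-- the form -/
def J (b : Bool) (K : Type u) [Field K] : Matrix (PI b) (PI b) K := fun i j => if j = pI i then 1 else 0

theorem form_apply {b : Bool} (A : Matrix (PI b) (PI b) K) (a c : PI b) :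
    (A.transpose * J b K * A) a c = ∑ i, A i a * A (pI i) c := by
  rw [Matrix.mul_assoc, Matrix.mul_apply]
  refine Finset.sum_congr rfl fun i _ => ?_
  rw [Matrix.transpose_apply, Matrix.mul_apply, Finset.sum_eq_single (pI i)]
  · unfold J
    rw [if_pos rfl, one_mul]
  · intro j _ hj
    unfold J
    rw [if_neg hj, zero_mul]
  · intro h
    exact absurd (Finset.mem_univ _) h

theorem form_x [CharP K 2] (b : Bool) (r : Fin chevF4.nroots) (t : K) :
    (res b (chevF4.xMat K r t)).transpose * J b K * res b (chevF4.xMat K r t) = J b K := by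
  have hr : r.val < 48 := r.2
  ext a c
  rw [form_apply]
  have e1 : ∀ i : PI b, res b (chevF4.xMat K r t) i a * res b (chevF4.xMat K r t) (pI i) c =
      evc t (cd i.1) (colOf r.val (cd a.1)) * evc t (cd (pI i).1) (colOf r.val (cd c.1)) := by
    intro i
    show chevF4.xMat K r t i.1 a.1 * chevF4.xMat K r t (pI i).1 c.1 = _
    rw [ent, ent]
  rw [Finset.sum_congr rfl fun i _ => e1 i, ← evN_prodL b t _ (col_exp hr (cd_lt c.1)) _ (col_exp hr (cd_lt a.1)),
    col_prod hr a c]
  unfold J
  by_cases h : c = pI a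
  · have h' : cd c.1 = pc (cd a.1) := by rw [h]; exact cd_pj a.1
    rw [if_pos h', if_pos h]
    have := evN_pow t (show 0 < 8 by norm_num)
    rw [pow_zero, pow_zero] at this
    exact this
  · have h' : ¬ cd c.1 = pc (cd a.1) := by
      intro h'
      apply h
      apply Subtype.ext
      apply cd_inj
      rw [h']
      exact (cd_pj a.1).symm
    rw [if_neg h', if_neg h, evN_zero]

/-- **the form is invariant** -/
theorem form_inv [CharP K 2] (b : Bool) (g : ↥(chevF4.group K)) :
    (resH b g).transpose * J b K * resH b g = J b K := by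
  obtain ⟨g, hg⟩ := g
  unfold ChevalleyDatum.group at hg
  induction hg using Subgroup.closure_induction with
  | mem g h =>
    obtain ⟨r, t, hrt⟩ := h
    show (res b (g : Matrix chevF4.Idx chevF4.Idx K)).transpose * J b K * res b (g : Matrix chevF4.Idx chevF4.Idx K) = _
    rw [hrt]
    exact form_x b r t
  | one =>
    have : (⟨1, Subgroup.one_mem _⟩ : ↥(chevF4.group K)) = 1 := rfl
    rw [this, map_one, Matrix.transpose_one, Matrix.one_mul, Matrix.mul_one]
  | mul x y hx hy ihx ihy =>
    have : (⟨x * y, Subgroup.mul_mem _ hx hy⟩ : ↥(chevF4.group K)) = ⟨x, hx⟩ * ⟨y, hy⟩ := rfl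
    rw [this, map_mul, Matrix.transpose_mul]
    calc _ = (resH b ⟨y, hy⟩).transpose * ((resH b ⟨x, hx⟩).transpose * J b K * resH b ⟨x, hx⟩) * resH b ⟨y, hy⟩ := by
          simp only [Matrix.mul_assoc]
      _ = _ := by rw [ihx, ihy]
  | inv x hx ih =>
    have h1 : (⟨x⁻¹, Subgroup.inv_mem _ hx⟩ : ↥(chevF4.group K)) = (⟨x, hx⟩ : ↥(chevF4.group K))⁻¹ := rfl
    have h2 : resH b ⟨x, hx⟩ * resH b (⟨x, hx⟩ : ↥(chevF4.group K))⁻¹ = 1 := by
      rw [← map_mul, mul_inv_cancel, map_one]
    rw [h1]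
    calc _ = (resH b (⟨x, hx⟩ : ↥(chevF4.group K))⁻¹).transpose *
          ((resH b ⟨x, hx⟩).transpose * J b K * resH b ⟨x, hx⟩) * resH b (⟨x, hx⟩ : ↥(chevF4.group K))⁻¹ := by rw [ih]
      _ = (resH b ⟨x, hx⟩ * resH b (⟨x, hx⟩ : ↥(chevF4.group K))⁻¹).transpose * J b K *
          (resH b ⟨x, hx⟩ * resH b (⟨x, hx⟩ : ↥(chevF4.group K))⁻¹) := by
          rw [Matrix.transpose_mul]
          simp only [Matrix.mul_assoc]
      _ = _ := by rw [h2, Matrix.transpose_one, Matrix.one_mul, Matrix.mul_one]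

end Cfsg.Agent.H952.F4.Two
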