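import Mathlib
import Cfsg.Agent.H35.F4Two.Form

/-!
# S5926, namespace `Two`: the two 26-dimensional modules (helper35)

`rhoT b` : the representation; `mod26` : dimension, alternating form, no invariants.
-/

set_option autoImplicit false

namespace Cfsg.Agent.H952.F4.Two

open Cfsg Cfsg.Lie Cfsg.Agent.ChevalleyStructure Cfsg.Agent.ChevalleyStructure.Columns
open Cfsg.Agent.ChevalleyStructure.Elts
open Cfsg.Agent.H969.TwF (inW BlockZ x_block)

universe u
variable {K : Type u} [Field K]

/-- the representation on the block `b` -/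
noncomputable def rhoT [CharP K 2] (b : Bool) : Representation K ↥(chevF4.group K) (PI b → K) :=
  ((Matrix.toLinAlgEquiv' : Matrix (PI b) (PI b) K ≃ₐ[K] ((PI b → K) →ₗ[K] (PI b → K))) :
    Matrix (PI b) (PI b) K →* _).comp (resH b)

theorem rhoT_apply [CharP K 2] (b : Bool) (g : ↥(chevF4.group K)) (v : PI b → K) :
    rhoT b g v = (resH b g).mulVec v := rfl

theorem rhoT_eq [CharP K 2] (b : Bool) (g : ↥(chevF4.group K)) : rhoT b g = Matrix.toLin' (resH b g) := rfl

theorem J_mulVec (b : Bool) (v : PI b → K) (i : PI b) : (J b K).mulVec v i = v (pI i) := by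
  rw [Matrix.mulVec, dotProduct, Finset.sum_eq_single (pI i)]
  · unfold J
    rw [if_pos rfl, one_mul]
  · intro j _ hj
    unfold J
    rw [if_neg hj, zero_mul]
  · intro h
    exact absurd (Finset.mem_univ _) h

/-- the extension by zero -/
noncomputable def ext0 {b : Bool} (v : PI b → K) : chevF4.Idx → K := fun j => if h : inW j = b then v ⟨j, h⟩ else 0

theorem ext0_of {b : Bool} (v : PI b → K) (j : PI b) : ext0 v j.1 = v j := by
  unfold ext0
  rw [dif_pos j.2]

theorem ext0_not {b : Bool} (v : PI b → K) {j : chevF4.Idx} (h : inW j ≠ b) : ext0 v j = 0 := by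
  unfold ext0
  rw [dif_neg h]

theorem sum_ext0 {b : Bool} (v : PI b → K) (f : chevF4.Idx → K) :
    ∑ j : PI b, f j.1 * v j = ∑ j : chevF4.Idx, f j * ext0 v j := by
  have h1 : ∑ j : chevF4.Idx, f j * ext0 v j = ∑ j ∈ Finset.univ.filter (fun k => inW k = b), f j * ext0 v j := by
    refine (Finset.sum_subset (Finset.subset_univ _) ?_).symm
    intro k _ hk
    have hk' : inW k ≠ b := by simpa using hk
    rw [ext0_not v hk', mul_zero]
  have h2 : ∑ j ∈ Finset.univ.filter (fun k => inW k = b), f j * ext0 v j = ∑ j : PI b, f j.1 * ext0 v j.1 :=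
    Finset.sum_subtype _ (by simp) (fun j => f j * ext0 v j)
  rw [h1, h2]
  exact Finset.sum_congr rfl fun j _ => by rw [ext0_of]

/-- a fixed vector -/
theorem fixed_row [CharP K 2] {b : Bool} {v : PI b → K} (hv : ∀ g : ↥(chevF4.group K), rhoT b g v = v)
    (r : Fin chevF4.nroots) (i : chevF4.Idx) (hi : inW i = b) :
    ∑ j : chevF4.Idx, chevF4.xMat K r 1 i j * ext0 v j = ext0 v i := by
  have h1 := hv ⟨xG hF4 r.val 1, xG_mem_group hF4 r.val 1⟩
  have h2 := congrFun h1 ⟨i, hi⟩
  rw [rhoT_apply, Matrix.mulVec, dotProduct] at h2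
  have h3 : ∀ j : PI b, resH b (⟨xG hF4 r.val 1, xG_mem_group hF4 r.val 1⟩ : ↥(chevF4.group K)) ⟨i, hi⟩ j =
      chevF4.xMat K r 1 i j.1 := by
    intro j
    show ((xG hF4 r.val (1 : K) : GL chevF4.Idx K) : Matrix chevF4.Idx chevF4.Idx K) i j.1 = _
    rw [coe_xG, x_of_lt r.2]
  rw [Finset.sum_congr rfl fun j _ => by rw [h3 j], sum_ext0 v (fun j => chevF4.xMat K r 1 i j)] at h2
  rw [h2]
  exact (ext0_of v ⟨i, hi⟩).symm

theorem neg_of (r : Fin chevF4.nroots) : (Fin.rev r).val = chevF4.negIdx.getD r.val 0 ∧ Fin.rev r ≠ r := by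
  have key : ∀ r < 48, 47 - r = chevF4.negIdx.getD r 0 ∧ 47 - r ≠ r := by decide +kernel
  have hr : r.val < 48 := r.2
  have h1 := key r.val hr
  have h2 : (Fin.rev r).val = 47 - r.val := by
    rw [Fin.val_rev]
    show 48 - (r.val + 1) = _
    omega
  refine ⟨h2.trans h1.1, fun h => h1.2 ?_⟩
  rw [← h2, h]

/-- the codes of the Cartan part of a block -/
def ci (b : Bool) (j : Fin 2) : Fin chevF4.rank := ⟨(if b then 0 else 2) + j.val, by
  have : j.val < 2 := j.2
  show (if b then 0 else 2) + j.val < 4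
  cases b <;> simp <;> omega⟩

theorem inW_ci (b : Bool) (j : Fin 2) : inW (Sum.inl (ci b j)) = b := by
  revert b j
  decide

theorem inW_inl {b : Bool} {i : Fin chevF4.rank} (h : inW (Sum.inl i) = b) : ∃ j, i = ci b j := by
  revert b i
  decide

theorem chkR : ∀ r < 48, ∃ j : Fin 2, cor chevF4 r (ci (Cfsg.Agent.H969.TwF.sh r) j).val % 2 ≠ 0 := by decide +kernel

theorem chkC : ∀ (b : Bool) (j : Fin 2), ∃ r : Fin 48, Cfsg.Agent.H969.TwF.sh r.val = b ∧
    ∀ i : Fin 2, (car chevF4 (ci b i).val r.val % 2 = 0 ↔ i ≠ j) := by decide +kernel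

theorem chkC' (b : Bool) (j : Fin 2) : ∃ r : Fin chevF4.nroots, Cfsg.Agent.H969.TwF.sh r.val = b ∧
    ∀ i : Fin 2, (car chevF4 (ci b i).val r.val % 2 = 0 ↔ i ≠ j) := chkC b j

theorem inv_root [CharP K 2] {b : Bool} {v : PI b → K} (hv : ∀ g : ↥(chevF4.group K), rhoT b g v = v)
    (s : Fin chevF4.nroots) : ext0 v (Sum.inr s) = 0 := by
  by_cases hs : inW (Sum.inr s) = b
  · set r := Fin.rev s with hr
    have hrs : Fin.rev r = s := by rw [hr, Fin.rev_rev]
    have hsh : inW (Sum.inr r) = b := by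
      rw [← hs, ← inW_pj (Sum.inr s)]
      rfl
    obtain ⟨j, hj⟩ := chkR r.val r.2
    have hsh' : Cfsg.Agent.H969.TwF.sh r.val = b := hsh
    rw [hsh'] at hj
    have h1 := fixed_row hv r (Sum.inl (ci b j)) (inW_ci b j)
    rw [Fintype.sum_sum_type] at h1
    have e1 : ∑ i : Fin chevF4.rank, chevF4.xMat K r 1 (Sum.inl (ci b j)) (Sum.inl i) * ext0 v (Sum.inl i) =
        ext0 v (Sum.inl (ci b j)) := by
      rw [Finset.sum_eq_single (ci b j)]
      · rw [xMat_inl_inl, if_pos rfl, one_mul]
      · intro i _ hi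
        rw [xMat_inl_inl, if_neg (fun h => hi h.symm), zero_mul]
      · intro h
        exact absurd (Finset.mem_univ _) h
    have e2 : ∑ t : Fin chevF4.nroots, chevF4.xMat K r 1 (Sum.inl (ci b j)) (Sum.inr t) * ext0 v (Sum.inr t) =
        ext0 v (Sum.inr s) := by
      rw [Finset.sum_eq_single s]
      · have h2 := neg_of r
        rw [hrs] at h2
        rw [xMat_inl_inr, if_neg h2.2, if_pos h2.1, odd_cast hj, one_mul, one_mul]
      · intro t _ ht
        have h2 := neg_of r
        rw [hrs] at h2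
        rw [xMat_inl_inr]
        by_cases h3 : t = r
        · rw [if_pos h3, zero_mul]
        · rw [if_neg h3, if_neg, zero_mul]
          intro h4
          exact ht (Fin.ext (h4.trans h2.1.symm))
      · intro h
        exact absurd (Finset.mem_univ _) h
    rw [e1, e2] at h1
    exact add_eq_left.1 h1
  · exact ext0_not v hs

theorem inv_zero [CharP K 2] {b : Bool} {v : PI b → K} (hv : ∀ g : ↥(chevF4.group K), rhoT b g v = v) : v = 0 := by
  have h0 : ∀ j : Fin 2, ext0 v (Sum.inl (ci b j)) = 0 := by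
    intro j
    obtain ⟨r, hr, hc⟩ := chkC' b j
    have h1 := fixed_row hv r (Sum.inr r) hr
    rw [Fintype.sum_sum_type, inv_root hv r] at h1
    have e2 : ∑ t : Fin chevF4.nroots, chevF4.xMat K r 1 (Sum.inr r) (Sum.inr t) * ext0 v (Sum.inr t) = 0 :=
      Finset.sum_eq_zero fun t _ => by rw [inv_root hv t, mul_zero]
    have e1 : ∑ i : Fin chevF4.rank, chevF4.xMat K r 1 (Sum.inr r) (Sum.inl i) * ext0 v (Sum.inl i) =
        ext0 v (Sum.inl (ci b j)) := by
      rw [Finset.sum_eq_single (ci b j)]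
      · have h2 : ¬ car chevF4 (ci b j).val r.val % 2 = 0 := fun h => (hc j).1 h rfl
        rw [xMat_inr_inl, if_pos rfl]
        have h3 := odd_cast (K := K) h2
        rw [h3, neg_eq', one_mul, one_mul]
      · intro i _ hi
        by_cases h2 : inW (Sum.inl i) = b
        · obtain ⟨j', rfl⟩ := inW_inl h2
          have h3 : j' ≠ j := fun h => hi (by rw [h])
          have h4 := even_cast' (K := K) ((hc j').2 h3)
          rw [xMat_inr_inl, if_pos rfl, h4, neg_zero, zero_mul, zero_mul]
        · rw [ext0_not v h2, mul_zero]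
      · intro h
        exact absurd (Finset.mem_univ _) h
    rw [e1, e2, add_zero] at h1
    exact h1
  funext i
  rw [← ext0_of v i]
  obtain ⟨i, hi⟩ := i
  rcases i with i | s
  · obtain ⟨j, rfl⟩ := inW_inl hi
    exact h0 j
  · exact inv_root hv s

theorem mod26 [CharP K 2] (b : Bool) : Mod26 (rhoT (K := K) b) where
  fin := inferInstance
  dim := by rw [Module.finrank_fintype_fun_eq_card, card_PI]
  form := by
    refine ⟨Matrix.toLinearMap₂' K (J b K), ?_, ?_, ?_⟩
    · intro v
      rw [Matrix.toLinearMap₂'_apply', dotProduct]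
      refine Finset.sum_involution (fun i _ => pI i) ?_ ?_ ?_ ?_
      · intro i _
        rw [J_mulVec, J_mulVec, pI_pI, mul_comm (v (pI i)) (v i)]
        exact CharTwo.add_self_eq_zero _
      · intro i _ _
        exact pI_ne i
      · intro i _
        exact Finset.mem_univ _
      · intro i _
        exact pI_pI i
    · intro v h
      funext i
      have h1 := h (Pi.single (pI i) 1)
      rw [Matrix.toLinearMap₂'_apply', dotProduct, Finset.sum_eq_single i] at h1
      · rw [J_mulVec, Pi.single_eq_same, mul_one] at h1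
        exact h1
      · intro j _ hj
        rw [J_mulVec, Pi.single_eq_of_ne, mul_zero]
        intro h2
        apply hj
        rw [← pI_pI j, h2, pI_pI]
      · intro h'
        exact absurd (Finset.mem_univ _) h'
    · intro g v w
      rw [Matrix.toLinearMap₂'_apply', Matrix.toLinearMap₂'_apply', rhoT_apply, rhoT_apply]
      conv_rhs => rw [← form_inv b g]
      rw [Matrix.dotProduct_mulVec, Matrix.dotProduct_mulVec, Matrix.dotProduct_mulVec, ← Matrix.vecMul_vecMul,
        ← Matrix.vecMul_vecMul, Matrix.vecMul_transpose]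
  inv := by
    rw [eq_bot_iff]
    intro v hv
    rw [Submodule.mem_bot]
    exact inv_zero fun g => hv g

end Cfsg.Agent.H952.F4.Two
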