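import Mathlib
import Cfsg.Agent.H35.F4Two.Mod
import Cfsg.Agent.H952.F4.Chg

/-!
# S5926, namespace `Two`: eigenspaces of the diagonalizable elements on the two modules (helper35)
-/

set_option autoImplicit false

namespace Cfsg.Agent.H952.F4.Two

open Cfsg Cfsg.Lie Cfsg.Agent.ChevalleyStructure Cfsg.Agent.ChevalleyStructure.Columns
open Cfsg.Agent.ChevalleyStructure.Elts
open Cfsg.Agent.H969.TwF (inW BlockZ x_block)
open Cfsg.Agent.GpExc.Field (emb coe_emb coe_glMap)

universe u v
variable {F : Type u} {K : Type u} [Field F] [Field K]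

theorem res_map (b : Bool) (f : F →+* K) (A : Matrix chevF4.Idx chevF4.Idx F) : res b (A.map f) = (res b A).map f := rfl

theorem resH_emb [CharP F 2] [CharP K 2] (b : Bool) (f : F →+* K) (x : ↥(chevF4.group F)) :
    resH b (emb hF4 f x) = (resH b x).map f := by
  rw [resH_apply, coe_emb, coe_glMap, res_map, resH_apply]

/-- the eigenspaces of a conjugate of a diagonal matrix -/
theorem ev_diag {ι : Type*} [Fintype ι] [DecidableEq ι] (P Q A : Matrix ι ι K) (d : ι → K) (hPQ : P * Q = 1)
    (hA : P * A * Q = Matrix.diagonal d) [DecidableEq K] :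
    ev (Matrix.toLin' A) 1 = (Finset.univ.filter fun i => d i = 1).card := by
  have hQP : Q * P = 1 := mul_eq_one_comm.1 hPQ
  have h1 := H815.F4Chg.ev_toLin A 1
  have h2 : (A - (1 : K) • (1 : Matrix ι ι K)).rank = (Finset.univ.filter fun i => ¬ d i = 1).card := by
    have e1 : P * (A - (1 : K) • (1 : Matrix ι ι K)) * Q = Matrix.diagonal fun i => d i - 1 := by
      rw [one_smul, Matrix.mul_sub, Matrix.sub_mul, hA, Matrix.mul_one, hPQ]
      ext i j
      by_cases h : i = j
      · subst h; simp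
      · simp [Matrix.diagonal_apply_ne _ h, Matrix.one_apply_ne h]
    have hP : IsUnit P.det := (Matrix.isUnit_iff_isUnit_det _).1 ⟨⟨P, Q, hPQ, hQP⟩, rfl⟩
    have hQ : IsUnit Q.det := (Matrix.isUnit_iff_isUnit_det _).1 ⟨⟨Q, P, hQP, hPQ⟩, rfl⟩
    have e2 := congrArg Matrix.rank e1
    rw [Matrix.rank_mul_eq_left_of_isUnit_det _ _ hQ, Matrix.rank_mul_eq_right_of_isUnit_det _ _ hP,
      Matrix.rank_diagonal, Fintype.card_subtype] at e2
    rw [e2]
    congr 1
    ext i
    simp [sub_eq_zero]
  have h3 := Finset.card_filter_add_card_filter_not (s := (Finset.univ : Finset ι)) (fun i => d i = 1)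
  rw [Finset.card_univ] at h3
  omega

theorem charP_of_hom [CharP F 2] (f : F →+* K) : CharP K 2 := charP_of_injective_ringHom f.injective 2

theorem ev_block [CharP F 2] [DecidableEq K] (f : F →+* K) (x : ↥(chevF4.group F)) (g : ↥(chevF4.group K))
    (c : Fin chevF4.nroots → K)
    (h : (((g * emb hF4 f x * g⁻¹ : ↥(chevF4.group K)) : GL chevF4.Idx K) : Matrix chevF4.Idx chevF4.Idx K) =
      Matrix.diagonal (Sum.elim (fun _ => (1 : K)) c)) (b : Bool) :
    ev (rhoT b x) 1 = 2 + (Finset.univ.filter fun s : Fin chevF4.nroots =>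
      Cfsg.Agent.H969.TwF.sh s.val = b ∧ c s = 1).card := by
  have := charP_of_hom f
  have h1 : ev (rhoT b x) 1 = ev (Matrix.toLin' (resH b (emb hF4 f x))) 1 := by
    rw [rhoT_eq, resH_emb, ← H815.F4Chg.ev_map f (resH b x) 1, map_one]
  have hPQ : resH b g * resH b g⁻¹ = 1 := by rw [← map_mul, mul_inv_cancel, map_one]
  have hA : resH b g * resH b (emb hF4 f x) * resH b g⁻¹ =
      Matrix.diagonal (fun i : PI b => (Sum.elim (fun _ => (1 : K)) c : chevF4.Idx → K) i.1) := by
    rw [← map_mul, ← map_mul, resH_apply, h]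
    ext i j
    show Matrix.diagonal _ i.1 j.1 = _
    by_cases hij : i = j
    · subst hij
      rw [Matrix.diagonal_apply_eq, Matrix.diagonal_apply_eq]
    · rw [Matrix.diagonal_apply_ne _ hij, Matrix.diagonal_apply_ne _ fun h' => hij (Subtype.ext h')]
  rw [h1, ev_diag _ _ _ _ hPQ hA]
  have e1 : (Finset.univ.filter fun i : PI b => (Sum.elim (fun _ => (1 : K)) c : chevF4.Idx → K) i.1 = 1).card =
      (Finset.univ.filter fun j : chevF4.Idx => inW j = b ∧ (Sum.elim (fun _ => (1 : K)) c : chevF4.Idx → K) j = 1).card := by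
    rw [← Fintype.card_subtype, ← Fintype.card_subtype]
    exact Fintype.card_congr (Equiv.subtypeSubtypeEquivSubtypeInter (fun j : chevF4.Idx => inW j = b)
      (fun j => (Sum.elim (fun _ => (1 : K)) c : chevF4.Idx → K) j = 1))
  rw [e1, Finset.card_filter, Fintype.sum_sum_type, ← Finset.card_filter, ← Finset.card_filter]
  congr 1
  have e2 : (Finset.univ.filter fun i : Fin chevF4.rank => inW (Sum.inl i) = b ∧
      (Sum.elim (fun _ => (1 : K)) c : chevF4.Idx → K) (Sum.inl i) = 1) = Finset.univ.filter fun i : Fin chevF4.rank => inW (Sum.inl i) = b := by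
    ext i
    simp
  rw [e2]
  cases b <;> decide

end Cfsg.Agent.H952.F4.Two
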