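import Mathlib
import Cfsg.Agent.H35.F4Two.Ev

/-!
# S5926, namespace `Two`: assembly (helper35)
-/

set_option autoImplicit false

namespace Cfsg.Agent.H952.F4.Two

open Cfsg Cfsg.Lie Cfsg.Agent.ChevalleyStructure
open Cfsg.Agent.ChevalleyStructure.Elts
open Cfsg.Agent.GpExc.Field (emb)

universe u

/-- over an extension field `x` is conjugate to a diagonal element with `nS` (`nL`) values 1 on the short (long) roots -/
def DiaP {F : Type u} [Field F] (x : ↥(chevF4.group F)) (nS nL : ℕ) : Prop :=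
  ∃ (K : Type u) (_ : Field K) (_ : DecidableEq K) (f : F →+* K) (g : ↥(chevF4.group K)) (c : Fin chevF4.nroots → K),
    (((g * emb hF4 f x * g⁻¹ : ↥(chevF4.group K)) : GL chevF4.Idx K) : Matrix chevF4.Idx chevF4.Idx K) =
      Matrix.diagonal (Sum.elim (fun _ => (1 : K)) c) ∧
    nS = (Finset.univ.filter fun s : Fin chevF4.nroots => Cfsg.Agent.H969.TwF.sh s.val = true ∧ c s = 1).card ∧
    nL = (Finset.univ.filter fun s : Fin chevF4.nroots => Cfsg.Agent.H969.TwF.sh s.val = false ∧ c s = 1).card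

theorem DiaP.ev {F : Type u} [Field F] [CharP F 2] {x : ↥(chevF4.group F)} {nS nL : ℕ} (h : DiaP x nS nL) :
    ev (rhoT true x) 1 = 2 + nS ∧ ev (rhoT false x) 1 = 2 + nL := by
  obtain ⟨K, _, _, f, g, c, h1, h2, h3⟩ := h
  exact ⟨by rw [ev_block f x g c h1 true, h2], by rw [ev_block f x g c h1 false, h3]⟩

theorem exists_pkg_of (F : Type u) [Field F] [CharP F 2]
    (h3 : ∀ x : ↥(chevF4.group F), x ≠ 1 → x ^ 3 = 1 → ∃ nS nL, DiaP x nS nL ∧ (nS = 6 ∨ nS = 12))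
    (h5 : ∀ x : ↥(chevF4.group F), x ≠ 1 → x ^ 5 = 1 → ∃ nS nL, DiaP x nS nL ∧ (6 ≤ nS ∨ 6 ≤ nL ∨ (nS = 4 ∧ nL = 4)))
    (h5r : ∀ x : ↥(chevF4.group F), x ≠ 1 → x ^ 5 = 1 → (∃ g, g * x * g⁻¹ = x ^ 2) →
      ∃ nS nL, DiaP x nS nL ∧ nS = 4 ∧ nL = 4)
    (h7r : ∀ x : ↥(chevF4.group F), x ≠ 1 → x ^ 7 = 1 → (∃ g, g * x * g⁻¹ = x ^ 2) →
      ∃ nS nL, DiaP x nS nL ∧ (nS = 6 ∨ nL = 6)) :
    ∃ (M N : Type u) (_ : AddCommGroup M) (_ : Module F M) (_ : AddCommGroup N) (_ : Module F N)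
      (ρ : Representation F ↥(chevF4.group F) M) (σ : Representation F ↥(chevF4.group F) N), Pkg ρ σ := by
  refine ⟨PI true → F, PI false → F, inferInstance, inferInstance, inferInstance, inferInstance, rhoT true,
    rhoT false, mod26 true, mod26 false, ?_, ?_, ?_, ?_⟩
  · intro x hx hx3
    obtain ⟨nS, nL, h, h'⟩ := h3 x hx hx3
    rw [h.ev.1]
    omega
  · intro x hx hx5
    obtain ⟨nS, nL, h, h'⟩ := h5 x hx hx5
    rw [h.ev.1, h.ev.2]
    omega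
  · intro x hx hx5 hg
    obtain ⟨nS, nL, h, h', h''⟩ := h5r x hx hx5 hg
    rw [h.ev.1, h.ev.2]
    omega
  · intro x hx hx7 hg
    obtain ⟨nS, nL, h, h'⟩ := h7r x hx hx7 hg
    rw [h.ev.1, h.ev.2]
    omega

end Cfsg.Agent.H952.F4.Two
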